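import Mathlib

/-!
# Two-variable polynomial calculus for cocycles on the additive group (helper2)
-/

set_option autoImplicit false
universe u v
open MvPolynomial

namespace Groth.Agent.Helper2.GaCoc

section chain
variable {R : Type u} [CommRing R] {T : Type v} [CommRing T] [Algebra R T]

/-- chain rule for `MvPolynomial.aeval` -/
theorem deriv_aeval {σ : Type*} [Fintype σ] (D : Derivation R T T) (g : σ → T)
    (F : MvPolynomial σ R) :
    D (aeval g F) = ∑ i, aeval g (pderiv i F) * D (g i) := by
  classical
  induction F using MvPolynomial.induction_on with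
  | C a =>
    simp
  | add p q hp hq =>
    simp only [map_add, hp, hq, add_mul, Finset.sum_add_distrib]
  | mul_X p j hp =>
    have h1 : ∀ i, aeval g (pderiv i (p * X j)) * D (g i) =
        (if i = j then aeval g p * D (g j) else 0) + g j * (aeval g (pderiv i p) * D (g i)) := by
      intro i
      rw [Derivation.leibniz, pderiv_X, smul_eq_mul, smul_eq_mul, map_add, map_mul, map_mul,
        aeval_X]
      by_cases hij : i = j
      · subst hij
        simp only [Pi.single_eq_same, map_one, mul_one, if_true]
        ring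
      · rw [Pi.single_eq_of_ne (Ne.symm hij), map_zero, mul_zero, if_neg hij]
        ring
    rw [map_mul, Derivation.leibniz, hp, aeval_X, Finset.sum_congr rfl (fun i _ => h1 i),
      Finset.sum_add_distrib, Finset.sum_ite_eq' Finset.univ j, if_pos (Finset.mem_univ j),
      smul_eq_mul, smul_eq_mul, Finset.mul_sum]

/-- two-variable substitution -/
noncomputable abbrev sub2 (a b : T) : MvPolynomial (Fin 2) R →ₐ[R] T := aeval ![a, b]

theorem deriv_sub2 (D : Derivation R T T) (a b : T) (F : MvPolynomial (Fin 2) R) :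
    D (sub2 a b F) = sub2 a b (pderiv 0 F) * D a + sub2 a b (pderiv 1 F) * D b := by
  rw [deriv_aeval, Fin.sum_univ_two]
  rfl

theorem sub2_comp {T' : Type*} [CommRing T'] [Algebra R T'] (ψ : T →ₐ[R] T') (a b : T)
    (F : MvPolynomial (Fin 2) R) : ψ (sub2 a b F) = sub2 (ψ a) (ψ b) F := by
  show ψ (aeval ![a, b] F) = aeval ![ψ a, ψ b] F
  rw [← AlgHom.comp_apply, comp_aeval]
  congr 2
  funext i
  fin_cases i <;> rfl

theorem sub2_X_Y (F : MvPolynomial (Fin 2) R) :
    sub2 (X 0 : MvPolynomial (Fin 2) R) (X 1) F = F := by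
  have : (![X 0, X 1] : Fin 2 → MvPolynomial (Fin 2) R) = X := by
    funext i; fin_cases i <;> rfl
  show aeval ![X 0, X 1] F = F
  rw [this, aeval_X_left_apply]

end chain

section coeffs
variable {R : Type u} [CommRing R]

lemma fin2_ext {m m' : Fin 2 →₀ ℕ} (h0 : m 0 = m' 0) (h1 : m 1 = m' 1) : m = m' := by
  ext i; fin_cases i
  · exact h0
  · exact h1

lemma coeff_X0_add_X1_pow (k : ℕ) (m : Fin 2 →₀ ℕ) :
    coeff m ((X 0 + X 1 : MvPolynomial (Fin 2) R) ^ k) =
      if m 0 + m 1 = k then (k.choose (m 0) : R) else 0 := by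
  classical
  rw [add_pow, coeff_sum]
  have h1 : ∀ i ∈ Finset.range (k + 1),
      coeff m ((X 0 : MvPolynomial (Fin 2) R) ^ i * X 1 ^ (k - i) * (k.choose i : MvPolynomial (Fin 2) R)) =
      if i = m 0 ∧ k - i = m 1 then (k.choose i : R) else 0 := by
    intro i _
    rw [X_pow_eq_monomial, X_pow_eq_monomial, monomial_mul, one_mul,
      show ((k.choose i : ℕ) : MvPolynomial (Fin 2) R) = C ((k.choose i : ℕ) : R) from
        (map_natCast C _).symm, mul_comm, coeff_C_mul, coeff_monomial]
    by_cases h : i = m 0 ∧ k - i = m 1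
    · rw [if_pos h, if_pos, mul_one]
      apply fin2_ext
      · simp [h.1]
      · simp [h.2]
    · rw [if_neg h, if_neg, mul_zero]
      intro hm
      apply h
      constructor
      · have := congrArg (fun f => f 0) hm; simpa using this
      · have := congrArg (fun f => f 1) hm; simpa using this
  rw [Finset.sum_congr rfl h1]
  by_cases hk : m 0 + m 1 = k
  · rw [if_pos hk, Finset.sum_eq_single (m 0)]
    · rw [if_pos]
      exact ⟨rfl, by omega⟩
    · intro i _ hi
      rw [if_neg]
      intro h; exact hi h.1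
    · intro h
      exfalso; apply h
      rw [Finset.mem_range]; omega
  · rw [if_neg hk]
    apply Finset.sum_eq_zero
    intro i hi
    rw [if_neg]
    rintro ⟨h1, h2⟩
    rw [Finset.mem_range] at hi
    omega

end coeffs

section charp
variable {R : Type u} [CommRing R] (p : ℕ) [hp : Fact p.Prime]

include hp in
/-- integers prime to `p` are units in a ring where `p = 0` -/
lemma isUnit_natCast_of_not_dvd (hpR : (p : R) = 0) {a : ℕ} (h : ¬ p ∣ a) : IsUnit (a : R) := by
  have hc : Nat.Coprime a p := ((Nat.Prime.coprime_iff_not_dvd hp.out).mpr h).symm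
  obtain ⟨u, v, huv⟩ := (Nat.isCoprime_iff_coprime.mpr hc)
  have h1 : ((u * (a : ℤ) + v * (p : ℤ) : ℤ) : R) = 1 := by rw [huv]; simp
  push_cast at h1
  rw [hpR, mul_zero, add_zero] at h1
  exact IsUnit.of_mul_eq_one _ (by rw [mul_comm]; exact h1)

include hp in
lemma coeff_eq_zero_of_pderiv_eq_zero (hpR : (p : R) = 0) {σ : Type*} {F : MvPolynomial σ R}
    {i : σ} (h : pderiv i F = 0) (m : σ →₀ ℕ) (hm : ¬ p ∣ m i) : coeff m F = 0 := by
  classical
  have hmi : m i ≠ 0 := fun h0 => hm (h0 ▸ dvd_zero p)
  have e : m = (m - Finsupp.single i 1) + Finsupp.single i 1 := by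
    ext j
    by_cases hj : j = i
    · subst hj
      simp only [Finsupp.coe_add, Finsupp.coe_tsub, Pi.add_apply, Pi.sub_apply,
        Finsupp.single_eq_same]
      omega
    · simp [Finsupp.single_eq_of_ne hj]
  have h1 := coeff_pderiv F (m - Finsupp.single i 1) (i := i)
  rw [h, coeff_zero, ← e] at h1
  have h2 : (((m - Finsupp.single i 1 : σ →₀ ℕ) i : ℕ) : R) + 1 = (m i : R) := by
    have : (m - Finsupp.single i 1 : σ →₀ ℕ) i + 1 = m i := by
      simp only [Finsupp.coe_tsub, Pi.sub_apply, Finsupp.single_eq_same]; omega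
    rw [← this]; push_cast; rfl
  rw [h2] at h1
  exact (isUnit_natCast_of_not_dvd p hpR hm).mul_left_eq_zero.mp h1.symm

include hp in
/-- a polynomial in characteristic `p` all of whose partial derivatives vanish is a polynomial
in the `p`-th powers of the variables -/
theorem exists_expand_of_pderiv_eq_zero (hpR : (p : R) = 0) {σ : Type*} (F : MvPolynomial σ R)
    (h : ∀ i, pderiv i F = 0) : ∃ F₂ : MvPolynomial σ R, expand p F₂ = F := by
  classical
  refine ⟨∑ m ∈ F.support, monomial (Finsupp.mapRange (· / p) (Nat.zero_div p) m) (coeff m F), ?_⟩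
  rw [map_sum]
  conv_rhs => rw [F.as_sum]
  apply Finset.sum_congr rfl
  intro m hm
  have hm' : p • Finsupp.mapRange (· / p) (Nat.zero_div p) m = m := by
    ext i
    rw [Finsupp.smul_apply, Finsupp.mapRange_apply, smul_eq_mul]
    have : p ∣ m i := by
      by_contra hnd
      exact (mem_support_iff.mp hm) (coeff_eq_zero_of_pderiv_eq_zero p hpR (h i) m hnd)
    exact Nat.mul_div_cancel' this
  rw [expand_monomial, hm']

end charp

end Groth.Agent.Helper2.GaCoc
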