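import Mathlib
import Groth.Agent.Lib.Helper2.GaCoc.Basic

/-!
# The Witt cocycle `((X+Y)^p - X^p - Y^p)/p` and cocycle predicates (helper2)
-/

set_option autoImplicit false
universe u v
open MvPolynomial

namespace Groth.Agent.Helper2.GaCoc

section defs
variable {R : Type u} [CommRing R]

/-- symmetric two-variable polynomial -/
def IsSymm (F : MvPolynomial (Fin 2) R) : Prop :=
  sub2 (X 1 : MvPolynomial (Fin 2) R) (X 0) F = F

/-- additive 2-cocycle -/
def IsCocA (F : MvPolynomial (Fin 2) R) : Prop :=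
  sub2 (X 0 : MvPolynomial (Fin 3) R) (X 1 + X 2) F + sub2 (X 1 : MvPolynomial (Fin 3) R) (X 2) F
    - sub2 (X 0 + X 1 : MvPolynomial (Fin 3) R) (X 2) F
    - sub2 (X 0 : MvPolynomial (Fin 3) R) (X 1) F = 0

/-- multiplicative 2-cocycle -/
def IsCocM (h : MvPolynomial (Fin 2) R) : Prop :=
  sub2 (X 1 : MvPolynomial (Fin 3) R) (X 2) h * sub2 (X 0 : MvPolynomial (Fin 3) R) (X 1 + X 2) h =
    sub2 (X 0 + X 1 : MvPolynomial (Fin 3) R) (X 2) h * sub2 (X 0 : MvPolynomial (Fin 3) R) (X 1) h

/-- additive coboundary of a one-variable polynomial -/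
noncomputable def dA (G : Polynomial R) : MvPolynomial (Fin 2) R :=
  Polynomial.aeval (X 0 + X 1 : MvPolynomial (Fin 2) R) G
    - Polynomial.aeval (X 0 : MvPolynomial (Fin 2) R) G
    - Polynomial.aeval (X 1 : MvPolynomial (Fin 2) R) G

theorem sub2_polyAeval {T : Type v} [CommRing T] [Algebra R T] (a b : T)
    (t : MvPolynomial (Fin 2) R) (G : Polynomial R) :
    sub2 a b (Polynomial.aeval t G) = Polynomial.aeval (sub2 a b t) G :=
  (Polynomial.aeval_algHom_apply (sub2 a b) t G).symm

@[simp] theorem sub2_X0 {T : Type v} [CommRing T] [Algebra R T] (a b : T) :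
    sub2 a b (X 0 : MvPolynomial (Fin 2) R) = a := by
  show aeval ![a, b] (X 0) = a
  rw [aeval_X]; rfl

@[simp] theorem sub2_X1 {T : Type v} [CommRing T] [Algebra R T] (a b : T) :
    sub2 a b (X 1 : MvPolynomial (Fin 2) R) = b := by
  show aeval ![a, b] (X 1) = b
  rw [aeval_X]; rfl

theorem sub2_dA {T : Type v} [CommRing T] [Algebra R T] (a b : T) (G : Polynomial R) :
    sub2 a b (dA G) = Polynomial.aeval (a + b) G - Polynomial.aeval a G - Polynomial.aeval b G := by
  unfold dA
  rw [map_sub, map_sub, sub2_polyAeval, sub2_polyAeval, sub2_polyAeval, map_add, sub2_X0, sub2_X1]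

theorem isSymm_dA (G : Polynomial R) : IsSymm (dA G) := by
  unfold IsSymm
  rw [sub2_dA]
  unfold dA
  rw [add_comm]
  ring

theorem isCocA_dA (G : Polynomial R) : IsCocA (dA G) := by
  unfold IsCocA
  rw [sub2_dA, sub2_dA, sub2_dA, sub2_dA]
  rw [show (X 0 + (X 1 + X 2) : MvPolynomial (Fin 3) R) = X 0 + X 1 + X 2 by ring]
  ring

theorem IsSymm.add {F G : MvPolynomial (Fin 2) R} (hF : IsSymm F) (hG : IsSymm G) :
    IsSymm (F + G) := by
  unfold IsSymm at *
  rw [map_add, hF, hG]

theorem IsSymm.sub {F G : MvPolynomial (Fin 2) R} (hF : IsSymm F) (hG : IsSymm G) :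
    IsSymm (F - G) := by
  unfold IsSymm at *
  rw [map_sub, hF, hG]

theorem IsSymm.C_mul {F : MvPolynomial (Fin 2) R} (hF : IsSymm F) (r : R) :
    IsSymm (C r * F) := by
  unfold IsSymm at *
  rw [map_mul, hF, algHom_C]
  rfl

theorem IsCocA.add {F G : MvPolynomial (Fin 2) R} (hF : IsCocA F) (hG : IsCocA G) :
    IsCocA (F + G) := by
  unfold IsCocA at *
  simp only [map_add]
  linear_combination hF + hG

theorem IsCocA.sub {F G : MvPolynomial (Fin 2) R} (hF : IsCocA F) (hG : IsCocA G) :
    IsCocA (F - G) := by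
  unfold IsCocA at *
  simp only [map_sub]
  linear_combination hF - hG

theorem IsCocA.C_mul {F : MvPolynomial (Fin 2) R} (hF : IsCocA F) (r : R) :
    IsCocA (C r * F) := by
  unfold IsCocA at *
  simp only [map_mul, algHom_C]
  have : (algebraMap R (MvPolynomial (Fin 3) R) r) = C r := rfl
  rw [this]
  linear_combination (C r) * hF

theorem map_sub2 {R' : Type*} [CommRing R'] (f : R →+* R') {τ : Type*}
    (a b : MvPolynomial τ R) (F : MvPolynomial (Fin 2) R) :
    map f (sub2 a b F) = sub2 (map f a) (map f b) (map f F) := by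
  show map f (bind₁ ![a, b] F) = bind₁ ![map f a, map f b] (map f F)
  rw [map_bind₁]
  congr 2
  funext i
  fin_cases i <;> rfl

theorem IsSymm.map {R' : Type*} [CommRing R'] (f : R →+* R') {F : MvPolynomial (Fin 2) R}
    (hF : IsSymm F) : IsSymm (map f F) := by
  unfold IsSymm at *
  have := congrArg (MvPolynomial.map f) hF
  rw [map_sub2, map_X, map_X] at this
  exact this

theorem IsCocA.map {R' : Type*} [CommRing R'] (f : R →+* R') {F : MvPolynomial (Fin 2) R}
    (hF : IsCocA F) : IsCocA (map f F) := by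
  unfold IsCocA at *
  have := congrArg (MvPolynomial.map f) hF
  simp only [map_sub, map_add, map_sub2, map_X, map_zero] at this
  exact this

theorem IsCocM.map {R' : Type*} [CommRing R'] (f : R →+* R') {F : MvPolynomial (Fin 2) R}
    (hF : IsCocM F) : IsCocM (map f F) := by
  unfold IsCocM at *
  have := congrArg (MvPolynomial.map f) hF
  simp only [map_mul, map_add, map_sub2, map_X] at this
  exact this

end defs

section witt
variable (p : ℕ) [hp : Fact p.Prime]

/-- the Witt polynomial `((X+Y)^p - X^p - Y^p)/p` over a commutative ring -/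
noncomputable def S (R : Type u) [CommRing R] : MvPolynomial (Fin 2) R :=
  ∑ j ∈ Finset.Ioo 0 p, C ((p.choose j / p : ℕ) : R) * X 0 ^ j * X 1 ^ (p - j)

theorem map_S {R : Type u} [CommRing R] {R' : Type v} [CommRing R'] (f : R →+* R') :
    map f (S p R) = S p R' := by
  unfold S
  rw [map_sum]
  apply Finset.sum_congr rfl
  intro j _
  simp

include hp in
theorem p_mul_S_int : (p : MvPolynomial (Fin 2) ℤ) * S p ℤ =
    (X 0 + X 1) ^ p - X 0 ^ p - X 1 ^ p := by
  have hp1 : 1 ≤ p := hp.out.one_lt.le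
  rw [add_pow, Finset.range_eq_Ico, Finset.sum_Ico_succ_top (Nat.zero_le p),
    Finset.sum_eq_sum_Ico_succ_bot hp.out.pos]
  simp only [pow_zero, Nat.sub_zero, one_mul, Nat.choose_zero_right, Nat.cast_one, mul_one,
    Nat.sub_self, Nat.choose_self]
  have hI : Finset.Ico (0 + 1) p = Finset.Ioo 0 p := by
    ext j; simp [Finset.mem_Ico, Finset.mem_Ioo]; omega
  rw [hI]
  unfold S
  rw [Finset.mul_sum]
  have : ∀ j ∈ Finset.Ioo 0 p, (p : MvPolynomial (Fin 2) ℤ) *
      (C ((p.choose j / p : ℕ) : ℤ) * X 0 ^ j * X 1 ^ (p - j)) =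
      X 0 ^ j * X 1 ^ (p - j) * (p.choose j : MvPolynomial (Fin 2) ℤ) := by
    intro j hj
    rw [Finset.mem_Ioo] at hj
    have hd : p ∣ p.choose j := hp.out.dvd_choose_self hj.1.ne' hj.2
    have hnat : p.choose j = p * (p.choose j / p) := (Nat.mul_div_cancel' hd).symm
    have e : (p.choose j : MvPolynomial (Fin 2) ℤ) =
        (p : MvPolynomial (Fin 2) ℤ) * C ((p.choose j / p : ℕ) : ℤ) := by
      have h1 : (C ((p.choose j / p : ℕ) : ℤ) : MvPolynomial (Fin 2) ℤ) =
          ((p.choose j / p : ℕ) : MvPolynomial (Fin 2) ℤ) := by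
        exact map_natCast C _
      rw [h1, ← Nat.cast_mul, ← hnat]
    rw [e]
    ring
  rw [Finset.sum_congr rfl this]
  ring

include hp in
theorem natCast_ne_zero_int : (p : MvPolynomial (Fin 2) ℤ) ≠ 0 := by
  have : (p : MvPolynomial (Fin 2) ℤ) = C (p : ℤ) := (map_natCast C p).symm
  rw [this, Ne, C_eq_zero]
  exact_mod_cast hp.out.ne_zero

include hp in
theorem natCast_ne_zero_int3 : (p : MvPolynomial (Fin 3) ℤ) ≠ 0 := by
  have : (p : MvPolynomial (Fin 3) ℤ) = C (p : ℤ) := (map_natCast C p).symm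
  rw [this, Ne, C_eq_zero]
  exact_mod_cast hp.out.ne_zero

include hp in
theorem sub2_S_int {T : Type v} [CommRing T] [Algebra ℤ T] (a b : T) :
    (p : T) * sub2 a b (S p ℤ) = (a + b) ^ p - a ^ p - b ^ p := by
  have h := congrArg (sub2 a b) (p_mul_S_int p)
  rw [map_mul, map_natCast, map_sub, map_sub, map_pow, map_pow, map_pow, map_add, sub2_X0,
    sub2_X1] at h
  exact h

include hp in
theorem isSymm_S_int : IsSymm (S p ℤ) := by
  unfold IsSymm
  apply mul_left_cancel₀ (natCast_ne_zero_int p)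
  rw [sub2_S_int, p_mul_S_int]
  ring

include hp in
theorem isCocA_S_int : IsCocA (S p ℤ) := by
  unfold IsCocA
  apply mul_left_cancel₀ (natCast_ne_zero_int3 p)
  rw [mul_zero, mul_sub, mul_sub, mul_add, sub2_S_int, sub2_S_int, sub2_S_int, sub2_S_int]
  ring

include hp in
theorem pderiv_one_S_int : pderiv 1 (S p ℤ) = (X 0 + X 1) ^ (p - 1) - X 1 ^ (p - 1) := by
  apply mul_left_cancel₀ (natCast_ne_zero_int p)
  have h := congrArg (pderiv (1 : Fin 2)) (p_mul_S_int p)
  rw [Derivation.leibniz, map_sub, map_sub, Derivation.leibniz_pow, Derivation.leibniz_pow,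
    Derivation.leibniz_pow, map_add, pderiv_X_self, pderiv_X_of_ne (by decide : (0 : Fin 2) ≠ 1),
    Derivation.map_natCast] at h
  simp only [smul_eq_mul, smul_zero, zero_add, add_zero, sub_zero, mul_one, mul_zero,
    nsmul_eq_mul] at h
  rw [h]
  ring

include hp in
theorem sub2_S_int_zero_right {T : Type v} [CommRing T] [Algebra ℤ T] [IsDomain T] [CharZero T]
    (a : T) :
    sub2 a 0 (S p ℤ) = 0 := by
  have h := sub2_S_int p a (0 : T)
  rw [add_zero, zero_pow hp.out.ne_zero, sub_self, sub_zero] at h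
  rcases mul_eq_zero.mp h with h1 | h1
  · exact absurd h1 (by exact_mod_cast hp.out.ne_zero)
  · exact h1

variable {R : Type u} [CommRing R]

include hp in
theorem isSymm_S : IsSymm (S p R) := by
  rw [← map_S p (Int.castRingHom R)]
  exact (isSymm_S_int p).map _

include hp in
theorem isCocA_S : IsCocA (S p R) := by
  rw [← map_S p (Int.castRingHom R)]
  exact (isCocA_S_int p).map _

include hp in
theorem pderiv_one_S : pderiv 1 (S p R) = (X 0 + X 1) ^ (p - 1) - X 1 ^ (p - 1) := by
  rw [← map_S p (Int.castRingHom R), pderiv_map, pderiv_one_S_int]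
  simp

end witt

end Groth.Agent.Helper2.GaCoc
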