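import Mathlib
import Groth.Agent.Lib.Helper2.GaCoc.Witt

/-!
# Lazard's lemma in characteristic `p`: symmetric additive 2-cocycles (helper2)
-/

set_option autoImplicit false
universe u v
open MvPolynomial

namespace Groth.Agent.Helper2.GaCoc

section phi
variable {R : Type u} [CommRing R]

/-- the derivative along the second variable at `Y = 0` -/
noncomputable def phi (F : MvPolynomial (Fin 2) R) : Polynomial R :=
  sub2 (Polynomial.X : Polynomial R) 0 (pderiv 1 F)

lemma aeval_phi {T : Type v} [CommRing T] [Algebra R T] (t : T) (F : MvPolynomial (Fin 2) R) :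
    Polynomial.aeval t (phi F) = sub2 t 0 (pderiv 1 F) := by
  unfold phi
  rw [sub2_comp (Polynomial.aeval t), Polynomial.aeval_X, map_zero]

theorem pderiv_one_of_isCocA {F : MvPolynomial (Fin 2) R} (hF : IsCocA F) :
    pderiv 1 F = Polynomial.aeval (X 0 + X 1 : MvPolynomial (Fin 2) R) (phi F)
      - Polynomial.aeval (X 1 : MvPolynomial (Fin 2) R) (phi F) := by
  unfold IsCocA at hF
  have h := congrArg (pderiv (2 : Fin 3)) hF
  rw [map_sub, map_sub, map_add, deriv_sub2, deriv_sub2, deriv_sub2, deriv_sub2, map_zero,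
    map_add, map_add, pderiv_X_self, pderiv_X_of_ne (by decide : (0 : Fin 3) ≠ 2),
    pderiv_X_of_ne (by decide : (1 : Fin 3) ≠ 2)] at h
  simp only [mul_zero, zero_add, add_zero, mul_one, sub_zero] at h
  let ψ : MvPolynomial (Fin 3) R →ₐ[R] MvPolynomial (Fin 2) R := aeval ![X 0, X 1, 0]
  have hψ0 : ψ (X 0) = X 0 := by simp [ψ]
  have hψ1 : ψ (X 1) = X 1 := by simp [ψ]
  have hψ2 : ψ (X 2) = 0 := by simp [ψ]
  have h2 := congrArg ψ h
  rw [map_sub, map_add, sub2_comp ψ, sub2_comp ψ, sub2_comp ψ, map_add, map_add, hψ0, hψ1, hψ2,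
    add_zero, map_zero, sub2_X_Y, ← aeval_phi, ← aeval_phi] at h2
  linear_combination h2

lemma coeff_polyAeval (t : MvPolynomial (Fin 2) R) (φ : Polynomial R) (m : Fin 2 →₀ ℕ) :
    coeff m (Polynomial.aeval t φ) = ∑ k ∈ φ.support, φ.coeff k * coeff m (t ^ k) := by
  rw [Polynomial.aeval_def, Polynomial.eval₂_eq_sum, Polynomial.sum, coeff_sum]
  apply Finset.sum_congr rfl
  intro k _
  rw [show algebraMap R (MvPolynomial (Fin 2) R) (φ.coeff k) = C (φ.coeff k) from rfl, coeff_C_mul]

end phi

section bad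
variable {R : Type u} [CommRing R] (p : ℕ) [hp : Fact p.Prime]

include hp in
lemma natCast_eq_of_modEq (hpR : (p : R) = 0) {a b : ℕ} (h : a ≡ b [MOD p]) :
    (a : R) = (b : R) := by
  have ha : (a : R) = ((a % p : ℕ) : R) := by
    conv_lhs => rw [← Nat.mod_add_div a p]
    push_cast
    rw [hpR, zero_mul, add_zero]
  have hb : (b : R) = ((b % p : ℕ) : R) := by
    conv_lhs => rw [← Nat.mod_add_div b p]
    push_cast
    rw [hpR, zero_mul, add_zero]
  rw [ha, hb, h]

include hp in
theorem phi_coeff_eq_zero (hpR : (p : R) = 0) {F : MvPolynomial (Fin 2) R} (hF : IsCocA F)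
    (j : ℕ) (hj : p ∣ j + 1) (hj2 : j + 1 ≠ p) : (phi F).coeff j = 0 := by
  classical
  obtain ⟨k, hk⟩ := hj
  have hp2 : 2 ≤ p := hp.out.two_le
  have hk2 : 2 ≤ k := by
    rcases k with _ | _ | k
    · omega
    · omega
    · omega
  have hjp : p ≤ j + 1 - p := by
    have : p * 2 ≤ p * k := Nat.mul_le_mul_left p hk2
    omega
  set m : Fin 2 →₀ ℕ := Finsupp.single 0 (j + 1 - p) + Finsupp.single 1 (p - 1) with hm
  have hm0 : m 0 = j + 1 - p := by simp [hm]
  have hm1 : m 1 = p - 1 := by simp [hm]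
  have h := congrArg (coeff m) (pderiv_one_of_isCocA hF)
  rw [coeff_pderiv, coeff_sub, coeff_polyAeval, coeff_polyAeval] at h
  have h1 : ((m 1 : ℕ) : R) + 1 = 0 := by
    rw [hm1]
    have : ((p - 1 : ℕ) : R) + 1 = ((p - 1 + 1 : ℕ) : R) := by push_cast; rfl
    rw [this, Nat.sub_add_cancel (by omega), hpR]
  rw [h1, mul_zero] at h
  have h2 : ∑ k ∈ (phi F).support, (phi F).coeff k * coeff m ((X 1 : MvPolynomial (Fin 2) R) ^ k)
      = 0 := by
    apply Finset.sum_eq_zero
    intro k _
    rw [X_pow_eq_monomial, coeff_monomial, if_neg, mul_zero]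
    intro hmk
    have := congrArg (fun f => f 0) hmk
    simp only [Finsupp.single_apply] at this
    rw [hm0] at this
    simp at this
    omega
  have h3 : ∑ k ∈ (phi F).support, (phi F).coeff k *
      coeff m ((X 0 + X 1 : MvPolynomial (Fin 2) R) ^ k) =
      (phi F).coeff j * (j.choose (j + 1 - p) : R) := by
    simp only [coeff_X0_add_X1_pow, hm0, hm1]
    have hsum : j + 1 - p + (p - 1) = j := by omega
    by_cases hjs : j ∈ (phi F).support
    · rw [Finset.sum_eq_single j]
      · rw [if_pos hsum]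
      · intro b _ hb
        rw [if_neg, mul_zero]
        omega
      · intro h; exact absurd hjs h
    · rw [Polynomial.notMem_support_iff.mp hjs, zero_mul]
      apply Finset.sum_eq_zero
      intro b hb
      rw [if_neg, mul_zero]
      intro hbj
      apply hjs
      have : b = j := by omega
      rw [← this]; exact hb
  rw [h2, h3, sub_zero] at h
  have hpk : p * k = p + p * (k - 1) := by
    obtain ⟨k', rfl⟩ : ∃ k', k = k' + 1 := ⟨k - 1, by omega⟩
    rw [Nat.add_sub_cancel, Nat.mul_succ, add_comm]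
  have hL : j.choose (j + 1 - p) ≡ 1 [MOD p] := by
    have := Choose.choose_modEq_choose_mod_mul_choose_div_nat (n := j) (k := j + 1 - p) (p := p)
    have e1 : j % p = p - 1 := by
      have : j = (p - 1) + p * (k - 1) := by
        omega
      rw [this, Nat.add_mul_mod_self_left, Nat.mod_eq_of_lt (by omega)]
    have e2 : (j + 1 - p) % p = 0 := by
      have : j + 1 - p = p * (k - 1) := by
        omega
      rw [this, Nat.mul_mod_right]
    have e3 : j / p = k - 1 := by
      have : j = (p - 1) + p * (k - 1) := by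
        omega
      rw [this, Nat.add_mul_div_left _ _ hp.out.pos, Nat.div_eq_of_lt (by omega), zero_add]
    have e4 : (j + 1 - p) / p = k - 1 := by
      have : j + 1 - p = p * (k - 1) := by
        omega
      rw [this, Nat.mul_div_cancel_left _ hp.out.pos]
    rw [e1, e2, e3, e4, Nat.choose_zero_right, Nat.choose_self, one_mul] at this
    exact this
  have hL' : (j.choose (j + 1 - p) : R) = 1 := by
    rw [natCast_eq_of_modEq p hpR hL, Nat.cast_one]
  rw [hL', mul_one] at h
  exact h.symm

end bad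

section derivs
variable {R : Type u} [CommRing R]

theorem pderiv_one_dA (G : Polynomial R) :
    pderiv 1 (dA G) = Polynomial.aeval (X 0 + X 1 : MvPolynomial (Fin 2) R) (Polynomial.derivative G)
      - Polynomial.aeval (X 1 : MvPolynomial (Fin 2) R) (Polynomial.derivative G) := by
  unfold dA
  rw [map_sub, map_sub, Derivation.map_aeval, Derivation.map_aeval, Derivation.map_aeval, map_add,
    pderiv_X_self, pderiv_X_of_ne (by decide : (0 : Fin 2) ≠ 1)]
  simp

theorem pderiv_zero_of_isSymm {F : MvPolynomial (Fin 2) R} (hF : IsSymm F) :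
    pderiv 0 F = sub2 (X 1 : MvPolynomial (Fin 2) R) (X 0) (pderiv 1 F) := by
  unfold IsSymm at hF
  conv_lhs => rw [← hF]
  rw [deriv_sub2, pderiv_X_self, pderiv_X_of_ne (by decide : (1 : Fin 2) ≠ 0)]
  simp

theorem expand_sub2 (q : ℕ) {τ : Type*} (a b : MvPolynomial τ R) (F : MvPolynomial (Fin 2) R) :
    sub2 a b (expand q F) = sub2 (a ^ q) (b ^ q) F := by
  show aeval ![a, b] (expand q F) = aeval ![a ^ q, b ^ q] F
  rw [aeval_expand]
  congr 2
  funext i
  fin_cases i <;> rfl

theorem expand_sub2' (q : ℕ) {τ : Type*} (a b : MvPolynomial τ R) (F : MvPolynomial (Fin 2) R) :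
    expand q (sub2 a b F) = sub2 (expand q a) (expand q b) F :=
  sub2_comp (expand q) a b F

theorem isSymm_expand_iff {q : ℕ} (hq : 0 < q) (F : MvPolynomial (Fin 2) R) :
    IsSymm (expand q F) ↔ IsSymm F := by
  unfold IsSymm
  rw [expand_sub2, ← expand_X, ← expand_X, ← expand_sub2']
  exact expand_inj hq

theorem isCocA_expand_iff {q : ℕ} (hq : 0 < q)
    (hadd : ∀ a b : MvPolynomial (Fin 3) R, (a + b) ^ q = a ^ q + b ^ q)
    (F : MvPolynomial (Fin 2) R) : IsCocA (expand q F) ↔ IsCocA F := by
  unfold IsCocA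
  rw [expand_sub2, expand_sub2, expand_sub2, expand_sub2, hadd, hadd]
  have e : sub2 (X 0 ^ q : MvPolynomial (Fin 3) R) (X 1 ^ q + X 2 ^ q) F
      + sub2 (X 1 ^ q : MvPolynomial (Fin 3) R) (X 2 ^ q) F
      - sub2 (X 0 ^ q + X 1 ^ q : MvPolynomial (Fin 3) R) (X 2 ^ q) F
      - sub2 (X 0 ^ q : MvPolynomial (Fin 3) R) (X 1 ^ q) F =
      expand q (sub2 (X 0 : MvPolynomial (Fin 3) R) (X 1 + X 2) F
        + sub2 (X 1 : MvPolynomial (Fin 3) R) (X 2) F
        - sub2 (X 0 + X 1 : MvPolynomial (Fin 3) R) (X 2) F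
        - sub2 (X 0 : MvPolynomial (Fin 3) R) (X 1) F) := by
    simp only [map_sub, map_add, expand_sub2', expand_X]
  rw [e, expand_eq_zero hq]

end derivs

section degs
variable {R : Type u} [CommRing R]

lemma totalDegree_X_le {σ : Type*} (i : σ) : (X i : MvPolynomial σ R).totalDegree ≤ 1 := by
  have := totalDegree_monomial_le (Finsupp.single i 1) (1 : R)
  rw [Finsupp.sum_single_index (by rfl)] at this
  exact this

lemma totalDegree_polyAeval_le {σ : Type*} (t : MvPolynomial σ R) (ht : t.totalDegree ≤ 1)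
    (G : Polynomial R) (d : ℕ) (hG : G.natDegree ≤ d) :
    (Polynomial.aeval t G).totalDegree ≤ d := by
  rw [Polynomial.aeval_eq_sum_range]
  apply totalDegree_finsetSum_le
  intro k hk
  rw [Finset.mem_range] at hk
  refine le_trans (totalDegree_smul_le _ _) ?_
  refine le_trans (totalDegree_pow _ _) ?_
  calc k * t.totalDegree ≤ k * 1 := Nat.mul_le_mul_left k ht
    _ = k := mul_one k
    _ ≤ d := by omega

lemma totalDegree_dA_le (G : Polynomial R) (d : ℕ) (hG : G.natDegree ≤ d) :
    (dA G).totalDegree ≤ d := by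
  unfold dA
  refine le_trans (totalDegree_sub _ _) (max_le (le_trans (totalDegree_sub _ _) (max_le ?_ ?_)) ?_)
  · apply totalDegree_polyAeval_le _ _ _ _ hG
    exact le_trans (totalDegree_add _ _) (max_le (totalDegree_X_le _) (totalDegree_X_le _))
  · exact totalDegree_polyAeval_le _ (totalDegree_X_le _) _ _ hG
  · exact totalDegree_polyAeval_le _ (totalDegree_X_le _) _ _ hG

lemma totalDegree_S_le (p : ℕ) : (S p R).totalDegree ≤ p := by
  unfold S
  apply totalDegree_finsetSum_le
  intro j hj
  rw [Finset.mem_Ioo] at hj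
  refine le_trans (totalDegree_mul _ _) ?_
  refine le_trans (add_le_add (totalDegree_mul _ _) (totalDegree_pow _ _)) ?_
  rw [totalDegree_C, zero_add]
  refine le_trans (add_le_add (totalDegree_pow _ _) le_rfl) ?_
  calc j * (X 0 : MvPolynomial (Fin 2) R).totalDegree + (p - j) * (X 1 : MvPolynomial (Fin 2) R).totalDegree
      ≤ j * 1 + (p - j) * 1 :=
        add_le_add (Nat.mul_le_mul_left _ (totalDegree_X_le _)) (Nat.mul_le_mul_left _ (totalDegree_X_le _))
    _ = p := by omega

lemma coeff_sub2_X_zero (H : MvPolynomial (Fin 2) R) (j : ℕ) :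
    (sub2 (Polynomial.X : Polynomial R) 0 H).coeff j = coeff (Finsupp.single 0 j) H := by
  classical
  induction H using MvPolynomial.induction_on' with
  | monomial m a =>
    show (aeval ![Polynomial.X, 0] (monomial m a)).coeff j = _
    rw [aeval_monomial, Finsupp.prod_fintype _ _ (fun i => pow_zero _), Fin.prod_univ_two,
      coeff_monomial]
    simp only [Matrix.cons_val_zero, Matrix.cons_val_one]
    by_cases h1 : m 1 = 0
    · rw [h1, pow_zero, mul_one, Polynomial.algebraMap_eq, Polynomial.coeff_C_mul,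
        Polynomial.coeff_X_pow]
      by_cases h0 : j = m 0
      · rw [if_pos h0, mul_one, if_pos]
        apply fin2_ext
        · simp [h0]
        · simp [h1]
      · rw [if_neg h0, mul_zero, if_neg]
        intro hm
        apply h0
        have := congrArg (fun f => f 0) hm
        simpa using this.symm
    · rw [zero_pow h1, mul_zero, mul_zero, Polynomial.coeff_zero, if_neg]
      intro hm
      apply h1
      have := congrArg (fun f => f 1) hm
      simpa using this
  | add p q hp hq =>
    rw [map_add, Polynomial.coeff_add, hp, hq, coeff_add]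

lemma phi_coeff (F : MvPolynomial (Fin 2) R) (j : ℕ) :
    (phi F).coeff j = coeff (Finsupp.single 0 j + Finsupp.single 1 1) F := by
  unfold phi
  rw [coeff_sub2_X_zero, coeff_pderiv]
  simp

lemma phi_support_le (F : MvPolynomial (Fin 2) R) (j : ℕ) (hj : j ∈ (phi F).support) :
    j + 1 ≤ F.totalDegree := by
  rw [Polynomial.mem_support_iff, phi_coeff] at hj
  have := le_totalDegree (mem_support_iff.mpr hj)
  rw [Finsupp.sum_add_index' (fun _ => rfl) (fun _ _ _ => rfl), Finsupp.sum_single_index rfl,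
    Finsupp.sum_single_index rfl] at this
  exact this

end degs

section antider
variable {R : Type u} [CommRing R] (p : ℕ) [hp : Fact p.Prime]

/-- formal antiderivative of the part of `φ` with exponents not `≡ -1 mod p` -/
noncomputable def antider (φ : Polynomial R) : Polynomial R :=
  ∑ j ∈ φ.support, if p ∣ j + 1 then 0
    else Polynomial.monomial (j + 1) (φ.coeff j * Ring.inverse ((j + 1 : ℕ) : R))

include hp in
lemma derivative_antider (hpR : (p : R) = 0) (φ : Polynomial R) :
    Polynomial.derivative (antider p φ) =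
      ∑ j ∈ φ.support, if p ∣ j + 1 then 0 else Polynomial.monomial j (φ.coeff j) := by
  unfold antider
  rw [map_sum]
  apply Finset.sum_congr rfl
  intro j _
  by_cases h : p ∣ j + 1
  · rw [if_pos h, if_pos h, map_zero]
  · rw [if_neg h, if_neg h, Polynomial.derivative_monomial, Nat.add_sub_cancel, mul_assoc,
      Ring.inverse_mul_cancel _ (isUnit_natCast_of_not_dvd p hpR h), mul_one]

include hp in
lemma sub_derivative_antider (hpR : (p : R) = 0) (φ : Polynomial R)
    (hbad : ∀ j, p ∣ j + 1 → j + 1 ≠ p → φ.coeff j = 0) :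
    φ - Polynomial.derivative (antider p φ) = Polynomial.monomial (p - 1) (φ.coeff (p - 1)) := by
  classical
  rw [derivative_antider p hpR]
  conv_lhs => lhs; rw [φ.as_sum_support]
  rw [← Finset.sum_sub_distrib]
  have h1 : ∀ j ∈ φ.support, Polynomial.monomial j (φ.coeff j) -
      (if p ∣ j + 1 then 0 else Polynomial.monomial j (φ.coeff j)) =
      if j = p - 1 then Polynomial.monomial (p - 1) (φ.coeff (p - 1)) else 0 := by
    intro j _
    by_cases h : p ∣ j + 1
    · rw [if_pos h, sub_zero]
      by_cases hj : j = p - 1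
      · rw [if_pos hj, hj]
      · rw [if_neg hj, hbad j h, map_zero]
        intro h2
        apply hj
        omega
    · rw [if_neg h, sub_self, if_neg]
      intro hj
      apply h
      rw [hj, Nat.sub_add_cancel hp.out.one_lt.le]
  rw [Finset.sum_congr rfl h1, Finset.sum_ite_eq' φ.support (p - 1)]
  by_cases hs : p - 1 ∈ φ.support
  · rw [if_pos hs]
  · rw [if_neg hs, Polynomial.notMem_support_iff.mp hs, map_zero]

lemma natDegree_antider_le (φ : Polynomial R) (d : ℕ) (h : ∀ j ∈ φ.support, j + 1 ≤ d) :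
    (antider p φ).natDegree ≤ d := by
  unfold antider
  apply Polynomial.natDegree_sum_le_of_forall_le
  intro j hj
  by_cases hd : p ∣ j + 1
  · rw [if_pos hd, Polynomial.natDegree_zero]; exact Nat.zero_le _
  · rw [if_neg hd]
    exact le_trans (Polynomial.natDegree_monomial_le _) (h j hj)

lemma antider_mem (J : Ideal R) (φ : Polynomial R) (h : ∀ j, φ.coeff j ∈ J) :
    antider p φ ∈ J.map (Polynomial.C : R →+* Polynomial R) := by
  unfold antider
  apply Ideal.sum_mem
  intro j _
  by_cases hd : p ∣ j + 1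
  · rw [if_pos hd]; exact Ideal.zero_mem _
  · rw [if_neg hd, ← Polynomial.C_mul_X_pow_eq_monomial]
    apply Ideal.mul_mem_right
    apply Ideal.mem_map_of_mem
    exact J.mul_mem_right _ (h j)

end antider

section ideal
variable {R : Type u} [CommRing R] (J : Ideal R)

lemma algHom_mem {A B : Type*} [CommRing A] [CommRing B] [Algebra R A] [Algebra R B]
    (ψ : A →ₐ[R] B) {x : A} (hx : x ∈ J.map (algebraMap R A)) : ψ x ∈ J.map (algebraMap R B) := by
  have h1 := Ideal.mem_map_of_mem (ψ : A →+* B) hx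
  rw [Ideal.map_map, AlgHom.comp_algebraMap] at h1
  exact h1

lemma polyAeval_mem {σ : Type*} (t : MvPolynomial σ R) {G : Polynomial R}
    (hG : G ∈ J.map (Polynomial.C : R →+* Polynomial R)) :
    Polynomial.aeval t G ∈ J.map (C : R →+* MvPolynomial σ R) :=
  algHom_mem J (Polynomial.aeval t) hG

lemma sub2_mem {τ : Type*} (a b : MvPolynomial τ R) {F : MvPolynomial (Fin 2) R}
    (hF : F ∈ J.map (C : R →+* MvPolynomial (Fin 2) R)) :
    sub2 a b F ∈ J.map (C : R →+* MvPolynomial τ R) :=
  algHom_mem J (sub2 a b) hF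

lemma dA_mem {G : Polynomial R} (hG : G ∈ J.map (Polynomial.C : R →+* Polynomial R)) :
    dA G ∈ J.map (C : R →+* MvPolynomial (Fin 2) R) := by
  unfold dA
  exact Ideal.sub_mem _ (Ideal.sub_mem _ (polyAeval_mem J _ hG) (polyAeval_mem J _ hG))
    (polyAeval_mem J _ hG)

lemma C_mul_mem {σ : Type*} {s : R} (hs : s ∈ J) (F : MvPolynomial σ R) :
    C s * F ∈ J.map (C : R →+* MvPolynomial σ R) :=
  Ideal.mul_mem_right _ _ (Ideal.mem_map_of_mem _ hs)

lemma mem_of_expand_mem {σ : Type*} {q : ℕ} (hq : q ≠ 0) {F : MvPolynomial σ R}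
    (h : expand q F ∈ J.map (C : R →+* MvPolynomial σ R)) :
    F ∈ J.map (C : R →+* MvPolynomial σ R) := by
  rw [mem_map_C_iff] at h ⊢
  intro m
  have := h (q • m)
  rwa [coeff_expand_smul _ hq] at this

lemma expand_mem {σ : Type*} (q : ℕ) {F : MvPolynomial σ R}
    (h : F ∈ J.map (C : R →+* MvPolynomial σ R)) :
    expand q F ∈ J.map (C : R →+* MvPolynomial σ R) :=
  algHom_mem J (expand q) h

end ideal

section step
variable {R : Type u} [CommRing R] (p : ℕ) [hp : Fact p.Prime]

include hp in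
theorem add_pow_p {T : Type*} [CommRing T] (hpT : (p : T) = 0) (a b : T) :
    (a + b) ^ p = a ^ p + b ^ p := by
  obtain ⟨r, hr⟩ := exists_add_pow_prime_eq hp.out a b
  rw [hr, hpT]; ring

lemma natCast_mv_eq_zero (hpR : (p : R) = 0) {σ : Type*} : (p : MvPolynomial σ R) = 0 := by
  rw [← map_natCast (C : R →+* MvPolynomial σ R), hpR, map_zero]

include hp in
theorem lazard_step (hpR : (p : R) = 0) (J : Ideal R) (F : MvPolynomial (Fin 2) R)
    (hS : IsSymm F) (hC : IsCocA F) (hJ : F ∈ J.map (C : R →+* MvPolynomial (Fin 2) R)) :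
    ∃ (G : Polynomial R) (s : R) (F₂ : MvPolynomial (Fin 2) R),
      G ∈ J.map (Polynomial.C : R →+* Polynomial R) ∧ s ∈ J ∧
      F₂ ∈ J.map (C : R →+* MvPolynomial (Fin 2) R) ∧ IsSymm F₂ ∧ IsCocA F₂ ∧
      F₂.totalDegree * p ≤ F.totalDegree ∧ F = dA G + C s * S p R + expand p F₂ := by
  have hφJ : ∀ j, (phi F).coeff j ∈ J := by
    intro j
    rw [phi_coeff]
    exact mem_map_C_iff.mp hJ _
  have hkey := sub_derivative_antider p hpR (phi F) (phi_coeff_eq_zero p hpR hC)
  set G := antider p (phi F) with hG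
  set s := (phi F).coeff (p - 1) with hs
  set F₁ := F - dA G - C s * S p R with hF₁
  have hGJ : G ∈ J.map (Polynomial.C : R →+* Polynomial R) := antider_mem p J _ hφJ
  have hsJ : s ∈ J := hφJ _
  have hF₁J : F₁ ∈ J.map (C : R →+* MvPolynomial (Fin 2) R) :=
    Ideal.sub_mem _ (Ideal.sub_mem _ hJ (dA_mem J hGJ)) (C_mul_mem J hsJ _)
  have hkey' : ∀ t : MvPolynomial (Fin 2) R, Polynomial.aeval t (phi F)
      - Polynomial.aeval t (Polynomial.derivative G) = C s * t ^ (p - 1) := by
    intro t
    rw [← map_sub, hkey, Polynomial.aeval_monomial]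
    rfl
  have hd1 : pderiv 1 F₁ = 0 := by
    rw [hF₁, map_sub, map_sub, pderiv_one_of_isCocA hC, pderiv_one_dA, pderiv_C_mul,
      pderiv_one_S]
    linear_combination hkey' (X 0 + X 1) - hkey' (X 1)
  have hS1 : IsSymm F₁ := (hS.sub (isSymm_dA G)).sub ((isSymm_S p).C_mul s)
  have hC1 : IsCocA F₁ := (hC.sub (isCocA_dA G)).sub ((isCocA_S p).C_mul s)
  have hd0 : pderiv 0 F₁ = 0 := by
    rw [pderiv_zero_of_isSymm hS1, hd1, map_zero]
  obtain ⟨F₂, hF₂⟩ := exists_expand_of_pderiv_eq_zero p hpR F₁ (by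
    intro i; fin_cases i
    · exact hd0
    · exact hd1)
  have hp0 : 0 < p := hp.out.pos
  have hpM : (p : MvPolynomial (Fin 3) R) = 0 := natCast_mv_eq_zero p hpR
  refine ⟨G, s, F₂, hGJ, hsJ, ?_, ?_, ?_, ?_, ?_⟩
  · exact mem_of_expand_mem J hp0.ne' (hF₂ ▸ hF₁J)
  · exact (isSymm_expand_iff hp0 F₂).mp (hF₂ ▸ hS1)
  · exact (isCocA_expand_iff hp0 (add_pow_p p hpM) F₂).mp (hF₂ ▸ hC1)
  · rw [← totalDegree_expand, hF₂, hF₁]
    refine le_trans (totalDegree_sub _ _) (max_le (le_trans (totalDegree_sub _ _)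
      (max_le le_rfl ?_)) ?_)
    · apply totalDegree_dA_le
      apply natDegree_antider_le
      intro j hj
      exact phi_support_le F j hj
    · by_cases hs0 : s = 0
      · rw [hs0, map_zero, zero_mul, totalDegree_zero]; exact Nat.zero_le _
      · have : p - 1 ∈ (phi F).support := Polynomial.mem_support_iff.mpr hs0
        have h1 := phi_support_le F _ this
        rw [Nat.sub_add_cancel hp.out.one_lt.le] at h1
        refine le_trans (totalDegree_mul _ _) ?_
        rw [totalDegree_C, zero_add]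
        exact le_trans (totalDegree_S_le p) h1
  · rw [hF₂, hF₁]; ring

lemma dA_add (G G' : Polynomial R) : dA (G + G') = dA G + dA G' := by
  unfold dA
  simp only [map_add]
  ring

include hp in
lemma expand_dA (hpR : (p : R) = 0) (G : Polynomial R) :
    expand p (dA G) = dA (Polynomial.expand R p G) := by
  unfold dA
  have hpM : (p : MvPolynomial (Fin 2) R) = 0 := natCast_mv_eq_zero p hpR
  rw [map_sub, map_sub, ← Polynomial.aeval_algHom_apply, ← Polynomial.aeval_algHom_apply,
    ← Polynomial.aeval_algHom_apply, map_add, expand_X, expand_X, Polynomial.expand_aeval,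
    Polynomial.expand_aeval, Polynomial.expand_aeval, add_pow_p p hpM]

lemma polyExpand_mem (J : Ideal R) {G : Polynomial R}
    (hG : G ∈ J.map (Polynomial.C : R →+* Polynomial R)) :
    Polynomial.expand R p G ∈ J.map (Polynomial.C : R →+* Polynomial R) := by
  rw [Ideal.mem_map_C_iff] at hG ⊢
  intro n
  rw [Polynomial.coeff_expand hp.out.pos]
  split_ifs
  · exact hG _
  · exact J.zero_mem

include hp in
/-- **Lazard's lemma in characteristic `p`** (with coefficients in an ideal) -/
theorem lazard (hpR : (p : R) = 0) (J : Ideal R) :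
    ∀ (d : ℕ) (F : MvPolynomial (Fin 2) R), F.totalDegree ≤ d → IsSymm F → IsCocA F →
      F ∈ J.map (C : R →+* MvPolynomial (Fin 2) R) →
      ∃ (G : Polynomial R) (N : ℕ) (r : ℕ → R),
        G ∈ J.map (Polynomial.C : R →+* Polynomial R) ∧ (∀ i, r i ∈ J) ∧
        F = dA G + ∑ i ∈ Finset.range N, C (r i) * expand (p ^ i) (S p R) := by
  intro d
  induction d using Nat.strong_induction_on with
  | _ d ih =>
    intro F hd hS hC hJ
    by_cases h0 : F.totalDegree = 0
    · rw [totalDegree_eq_zero_iff_eq_C] at h0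
      have hc : coeff 0 F ∈ J := mem_map_C_iff.mp hJ 0
      refine ⟨-Polynomial.C (coeff 0 F), 0, fun _ => 0, ?_, fun _ => J.zero_mem, ?_⟩
      · exact Ideal.neg_mem_iff _ |>.mpr (Ideal.mem_map_of_mem _ hc)
      · rw [Finset.range_zero, Finset.sum_empty, add_zero]
        unfold dA
        simp only [map_neg, Polynomial.aeval_C]
        conv_lhs => rw [h0]
        rw [show algebraMap R (MvPolynomial (Fin 2) R) (coeff 0 F) = C (coeff 0 F) from rfl]
        ring
    · obtain ⟨G, s, F₂, hGJ, hsJ, hF₂J, hS₂, hC₂, hdeg, hF⟩ := lazard_step p hpR J F hS hC hJ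
      have hp2 : 2 ≤ p := hp.out.two_le
      have hlt : F₂.totalDegree < d := by
        have h1 : F₂.totalDegree * 2 ≤ F₂.totalDegree * p := Nat.mul_le_mul_left _ hp2
        have h2 : 1 ≤ F.totalDegree := Nat.one_le_iff_ne_zero.mpr h0
        omega
      obtain ⟨G₂, N, r, hG₂J, hrJ, hF₂⟩ := ih _ hlt F₂ le_rfl hS₂ hC₂ hF₂J
      refine ⟨G + Polynomial.expand R p G₂, N + 1, fun i => if i = 0 then s else r (i - 1),
        Ideal.add_mem _ hGJ (polyExpand_mem p J hG₂J), ?_, ?_⟩
      · intro i
        by_cases hi : i = 0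
        · simp only [hi, if_true]; exact hsJ
        · simp only [hi, if_false]; exact hrJ _
      · rw [Finset.sum_range_succ', dA_add, ← expand_dA p hpR]
        simp only [pow_zero, expand_one_apply, if_true, Nat.add_sub_cancel,
          Nat.succ_ne_zero, if_false]
        conv_lhs => rw [hF, hF₂]
        rw [map_add, map_sum]
        have : ∀ i ∈ Finset.range N, expand p (C (r i) * expand (p ^ i) (S p R)) =
            C (r i) * expand (p ^ (i + 1)) (S p R) := by
          intro i _
          rw [map_mul, expand_C, pow_succ', expand_mul]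
        rw [Finset.sum_congr rfl this]
        ring

include hp in
theorem add_pow_p_pow {T : Type*} [CommRing T] (hpT : (p : T) = 0) (i : ℕ) (a b : T) :
    (a + b) ^ p ^ i = a ^ p ^ i + b ^ p ^ i := by
  induction i with
  | zero => simp
  | succ i ih => rw [pow_succ, pow_mul, ih, add_pow_p p hpT, ← pow_mul, ← pow_mul]

lemma isSymm_zero : IsSymm (0 : MvPolynomial (Fin 2) R) := by
  unfold IsSymm; rw [map_zero]

lemma isCocA_zero : IsCocA (0 : MvPolynomial (Fin 2) R) := by
  unfold IsCocA; simp only [map_zero]; ring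

lemma IsSymm.sum {ι : Type*} (s : Finset ι) (f : ι → MvPolynomial (Fin 2) R)
    (h : ∀ i ∈ s, IsSymm (f i)) : IsSymm (∑ i ∈ s, f i) :=
  Finset.sum_induction f IsSymm (fun _ _ => IsSymm.add) isSymm_zero h

lemma IsCocA.sum {ι : Type*} (s : Finset ι) (f : ι → MvPolynomial (Fin 2) R)
    (h : ∀ i ∈ s, IsCocA (f i)) : IsCocA (∑ i ∈ s, f i) :=
  Finset.sum_induction f IsCocA (fun _ _ => IsCocA.add) isCocA_zero h

lemma expand_eq_sub2 (q : ℕ) (F : MvPolynomial (Fin 2) R) :
    expand q F = sub2 (X 0 ^ q : MvPolynomial (Fin 2) R) (X 1 ^ q) F := by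
  rw [← expand_sub2, sub2_X_Y]

include hp in
/-- symmetric additive 2-cocycles in characteristic `p` (both directions) -/
theorem symmCocycle_iff (hpR : (p : R) = 0) (F : MvPolynomial (Fin 2) R) :
    (IsSymm F ∧ IsCocA F) ↔ ∃ (G : Polynomial R) (N : ℕ) (r : ℕ → R),
      F = dA G + ∑ i ∈ Finset.range N, C (r i) * expand (p ^ i) (S p R) := by
  constructor
  · rintro ⟨hS, hC⟩
    obtain ⟨G, N, r, -, -, hF⟩ := lazard p hpR ⊤ F.totalDegree F le_rfl hS hC (by
      rw [Ideal.map_top]; trivial)
    exact ⟨G, N, r, hF⟩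
  · rintro ⟨G, N, r, rfl⟩
    have hpM : (p : MvPolynomial (Fin 3) R) = 0 := natCast_mv_eq_zero p hpR
    constructor
    · refine (isSymm_dA G).add (IsSymm.sum _ _ fun i _ => IsSymm.C_mul ?_ _)
      exact (isSymm_expand_iff (pow_pos hp.out.pos i) _).mpr (isSymm_S p)
    · refine (isCocA_dA G).add (IsCocA.sum _ _ fun i _ => IsCocA.C_mul ?_ _)
      exact (isCocA_expand_iff (pow_pos hp.out.pos i) (add_pow_p_pow p hpM i) _).mpr (isCocA_S p)

end step

end Groth.Agent.Helper2.GaCoc
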