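import Mathlib
import Groth.Agent.Lib.Helper2.GaCoc.Lazard

/-!
# An Artin–Hasse type polynomial modulo `n^(2p)` (helper2)

For `n` with `n^(2p) = 0` in a ring of characteristic `p` we construct a unit polynomial `e` with
`e(X+Y) = e(X) e(Y) (1 + n^p S(X,Y))`, `S = ((X+Y)^p - X^p - Y^p)/p`.
-/

set_option autoImplicit false
universe u v
open MvPolynomial

namespace Groth.Agent.Helper2.GaCoc

section consts
variable (p : ℕ) [hp : Fact p.Prime]

/-- harmonic numbers in `ZMod p` -/
noncomputable def harm (l : ℕ) : ZMod p := ∑ i ∈ Finset.range l, ((i + 1 : ℕ) : ZMod p)⁻¹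

/-- the coefficients of the polynomial -/
noncomputable def eps (j : ℕ) : ZMod p :=
  if j < p then ((j.factorial : ℕ) : ZMod p)⁻¹
  else harm p (j - p) * (((j - p).factorial : ℕ) : ZMod p)⁻¹

include hp in
lemma natCast_ne_zero_of_lt {a : ℕ} (h0 : 0 < a) (h : a < p) : (a : ZMod p) ≠ 0 := by
  intro h1
  rw [ZMod.natCast_eq_zero_iff] at h1
  exact absurd (Nat.le_of_dvd h0 h1) (by omega)

include hp in
lemma factorial_ne_zero_of_lt {a : ℕ} (h : a < p) : ((a.factorial : ℕ) : ZMod p) ≠ 0 := by
  intro h1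
  rw [ZMod.natCast_eq_zero_iff] at h1
  exact absurd ((hp.out.dvd_factorial).mp h1) (by omega)

include hp in
/-- the recurrence satisfied by the coefficients -/
theorem eps_rec (j : ℕ) (hj : j + 1 < 2 * p) :
    ((j + 1 : ℕ) : ZMod p) * eps p (j + 1) =
      eps p j + (if p ≤ j + 1 then eps p (j + 1 - p) else 0) := by
  have hp2 : 2 ≤ p := hp.out.two_le
  rcases lt_trichotomy (j + 1) p with h | h | h
  · -- j + 1 < p
    rw [if_neg (by omega)]
    unfold eps
    rw [if_pos h, if_pos (by omega), add_zero, Nat.factorial_succ]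
    push_cast
    have h1 : ((j + 1 : ℕ) : ZMod p) ≠ 0 := natCast_ne_zero_of_lt p (by omega) h
    have h2 : ((j.factorial : ℕ) : ZMod p) ≠ 0 := factorial_ne_zero_of_lt p (by omega)
    push_cast at h1
    field_simp
  · -- j + 1 = p
    rw [if_pos (by omega), h, Nat.sub_self]
    have hj' : j = p - 1 := by omega
    unfold eps
    rw [if_neg (by omega), if_pos (by omega), if_pos hp.out.pos, Nat.sub_self, hj']
    simp only [CharP.cast_eq_zero, zero_mul, Nat.factorial_zero, Nat.cast_one, inv_one]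
    rw [ZMod.wilsons_lemma]
    norm_num
  · -- p < j + 1 < 2p
    rw [if_pos (by omega)]
    obtain ⟨l, hl⟩ : ∃ l, j + 1 = p + (l + 1) := ⟨j - p, by omega⟩
    have hl1 : l + 1 < p := by omega
    have hjl : j = p + l := by omega
    unfold eps
    rw [if_neg (by omega), if_neg (by omega), if_pos (by omega : j + 1 - p < p), hl, hjl]
    simp only [Nat.add_sub_cancel_left]
    have hc : ((p + (l + 1) : ℕ) : ZMod p) = ((l + 1 : ℕ) : ZMod p) := by
      push_cast; simp
    rw [hc]
    have h1 : ((l + 1 : ℕ) : ZMod p) ≠ 0 := natCast_ne_zero_of_lt p (by omega) hl1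
    have h2 : ((l.factorial : ℕ) : ZMod p) ≠ 0 := factorial_ne_zero_of_lt p (by omega)
    have hh : harm p (l + 1) = harm p l + ((l + 1 : ℕ) : ZMod p)⁻¹ := by
      unfold harm; rw [Finset.sum_range_succ]
    rw [hh, Nat.factorial_succ]
    push_cast
    push_cast at h1
    field_simp

end consts

section poly
variable {R : Type u} [CommRing R] (p : ℕ) [hp : Fact p.Prime]

/-- the canonical map `ZMod p → R` when `p = 0` in `R` -/
noncomputable def zcast (hpR : (p : R) = 0) : ZMod p →+* R :=
  ZMod.castHom (ringChar.dvd hpR) R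

/-- the Artin–Hasse type polynomial -/
noncomputable def ahPoly (hpR : (p : R) = 0) (n : R) : Polynomial R :=
  ∑ j ∈ Finset.range (2 * p), Polynomial.monomial j (zcast p hpR (eps p j) * n ^ j)

lemma coeff_ahPoly (hpR : (p : R) = 0) (n : R) (j : ℕ) :
    (ahPoly p hpR n).coeff j = if j < 2 * p then zcast p hpR (eps p j) * n ^ j else 0 := by
  classical
  unfold ahPoly
  rw [Polynomial.finsetSum_coeff]
  simp only [Polynomial.coeff_monomial]
  rw [Finset.sum_ite_eq' (Finset.range (2 * p)) j]
  simp only [Finset.mem_range]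

include hp in
lemma coeff_zero_ahPoly (hpR : (p : R) = 0) (n : R) : (ahPoly p hpR n).coeff 0 = 1 := by
  rw [coeff_ahPoly, if_pos (by have := hp.out.pos; omega), pow_zero, mul_one]
  unfold eps
  rw [if_pos hp.out.pos]
  simp

include hp in
/-- the differential equation `e' = (n + n^p X^(p-1)) e` -/
theorem derivative_ahPoly (hpR : (p : R) = 0) (n : R) (hn : n ^ (2 * p) = 0) :
    Polynomial.derivative (ahPoly p hpR n) =
      (Polynomial.C n + Polynomial.C (n ^ p) * Polynomial.X ^ (p - 1)) * ahPoly p hpR n := by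
  have hp2 : 2 ≤ p := hp.out.two_le
  have hn' : ∀ k, 2 * p ≤ k → n ^ k = 0 := fun k hk => pow_eq_zero_of_le hk hn
  ext j
  rw [Polynomial.coeff_derivative, add_mul, Polynomial.coeff_add, Polynomial.coeff_C_mul,
    mul_assoc, Polynomial.coeff_C_mul, Polynomial.coeff_X_pow_mul', coeff_ahPoly, coeff_ahPoly,
    coeff_ahPoly]
  by_cases hj : j + 1 < 2 * p
  · rw [if_pos hj, if_pos (by omega : j < 2 * p)]
    have hcast : ((j : R) + 1) = zcast p hpR ((j + 1 : ℕ) : ZMod p) := by
      rw [map_natCast]; push_cast; rfl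
    have hrec := congrArg (zcast p hpR) (eps_rec p j hj)
    rw [map_mul, map_add] at hrec
    by_cases hpj : p - 1 ≤ j
    · rw [if_pos hpj, if_pos (by omega : j - (p - 1) < 2 * p)]
      rw [if_pos (by omega : p ≤ j + 1)] at hrec
      have e1 : j - (p - 1) = j + 1 - p := by omega
      have e2 : n ^ (j + 1) = n ^ p * n ^ (j + 1 - p) := by
        rw [← pow_add]; congr 1; omega
      rw [e1, hcast]
      calc zcast p hpR (eps p (j + 1)) * n ^ (j + 1) * zcast p hpR ((j + 1 : ℕ) : ZMod p)
          = (zcast p hpR ((j + 1 : ℕ) : ZMod p) * zcast p hpR (eps p (j + 1))) * n ^ (j + 1) := by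
            ring
        _ = (zcast p hpR (eps p j) + zcast p hpR (eps p (j + 1 - p))) * n ^ (j + 1) := by rw [hrec]
        _ = n * (zcast p hpR (eps p j) * n ^ j) +
            n ^ p * (zcast p hpR (eps p (j + 1 - p)) * n ^ (j + 1 - p)) := by
            have e3 : n ^ (j + 1) = n * n ^ j := by rw [pow_succ]; ring
            linear_combination zcast p hpR (eps p j) * e3 + zcast p hpR (eps p (j + 1 - p)) * e2
    · rw [if_neg hpj, mul_zero, add_zero]
      rw [if_neg (by omega : ¬ p ≤ j + 1), map_zero, add_zero] at hrec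
      rw [hcast]
      calc zcast p hpR (eps p (j + 1)) * n ^ (j + 1) * zcast p hpR ((j + 1 : ℕ) : ZMod p)
          = (zcast p hpR ((j + 1 : ℕ) : ZMod p) * zcast p hpR (eps p (j + 1))) * n ^ (j + 1) := by
            ring
        _ = zcast p hpR (eps p j) * n ^ (j + 1) := by rw [hrec]
        _ = n * (zcast p hpR (eps p j) * n ^ j) := by rw [pow_succ]; ring
  · rw [if_neg hj, zero_mul, if_pos (by omega : p - 1 ≤ j)]
    have h1 : n * (if j < 2 * p then zcast p hpR (eps p j) * n ^ j else 0) = 0 := by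
      split_ifs with h
      · have : j + 1 = 2 * p := by omega
        rw [mul_comm, mul_assoc, ← pow_succ, this, hn, mul_zero]
      · rw [mul_zero]
    have h2 : n ^ p * (if j - (p - 1) < 2 * p then
        zcast p hpR (eps p (j - (p - 1))) * n ^ (j - (p - 1)) else 0) = 0 := by
      split_ifs with h
      · rw [mul_comm, mul_assoc, ← pow_add, hn' _ (by omega), mul_zero]
      · rw [mul_zero]
    rw [h1, h2, add_zero]

end poly

section weight
variable {R : Type u} [CommRing R] (n : R)

/-- polynomials whose coefficient at a monomial of degree `d` is divisible by `n^d` -/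
def Wt : Subalgebra R (MvPolynomial (Fin 2) R) where
  carrier := {F | ∀ m : Fin 2 →₀ ℕ, n ^ (m 0 + m 1) ∣ coeff m F}
  mul_mem' := by
    intro F G hF hG m
    classical
    rw [coeff_mul]
    apply Finset.dvd_sum
    intro x hx
    rw [Finset.HasAntidiagonal.mem_antidiagonal] at hx
    have e : m 0 + m 1 = (x.1 0 + x.1 1) + (x.2 0 + x.2 1) := by
      rw [← hx]; simp only [Finsupp.coe_add, Pi.add_apply]; omega
    rw [e, pow_add]
    exact mul_dvd_mul (hF _) (hG _)
  add_mem' := by
    intro F G hF hG m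
    rw [coeff_add]
    exact dvd_add (hF m) (hG m)
  algebraMap_mem' := by
    intro r m
    classical
    rw [show algebraMap R (MvPolynomial (Fin 2) R) r = C r from rfl, coeff_C]
    split_ifs with h
    · rw [← h]; simp
    · exact dvd_zero _

lemma mem_Wt {F : MvPolynomial (Fin 2) R} :
    F ∈ Wt n ↔ ∀ m : Fin 2 →₀ ℕ, n ^ (m 0 + m 1) ∣ coeff m F := Iff.rfl

lemma C_mul_X_mem_Wt (i : Fin 2) : C n * X i ∈ Wt n := by
  classical
  intro m
  rw [coeff_C_mul, coeff_X]
  split_ifs with h
  · rw [← h, mul_one]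
    fin_cases i
    · simp
    · simp
  · rw [mul_zero]; exact dvd_zero _

lemma C_pow_mul_pow_mem_Wt {t : MvPolynomial (Fin 2) R} (ht : C n * t ∈ Wt n) (c : R) (j : ℕ) :
    C (c * n ^ j) * t ^ j ∈ Wt n := by
  have : C (c * n ^ j) * t ^ j = algebraMap R _ c * (C n * t) ^ j := by
    rw [map_mul, map_pow, mul_pow, mul_assoc]; rfl
  rw [this]
  exact (Wt n).mul_mem ((Wt n).algebraMap_mem c) ((Wt n).pow_mem ht j)

lemma coeff_eq_zero_of_mem_Wt {F : MvPolynomial (Fin 2) R} (hF : F ∈ Wt n) {k : ℕ}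
    (hn : n ^ k = 0) (m : Fin 2 →₀ ℕ) (hm : k ≤ m 0 + m 1) : coeff m F = 0 := by
  have h1 := hF m
  rw [pow_eq_zero_of_le hm hn] at h1
  exact zero_dvd_iff.mp h1

lemma isNilpotent_of_mem_Wt {w : MvPolynomial (Fin 2) R} (hw : w ∈ Wt n) (h0 : coeff 0 w = 0)
    (hn : IsNilpotent n) : IsNilpotent w := by
  rw [MvPolynomial.isNilpotent_iff]
  intro m
  by_cases hm : m = 0
  · rw [hm, h0]; exact IsNilpotent.zero
  · have h1 : 1 ≤ m 0 + m 1 := by
      by_contra hlt
      apply hm
      apply fin2_ext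
      · simp; omega
      · simp; omega
    obtain ⟨c, hc⟩ := hw m
    rw [hc]
    have : IsNilpotent (n ^ (m 0 + m 1)) := hn.pow_of_pos (by omega)
    exact (Commute.all _ _).isNilpotent_mul_right this

/-- elements of `Wt n` with constant term `1` have an inverse in `Wt n` -/
lemma exists_inv_mem_Wt {a : MvPolynomial (Fin 2) R} (ha : a ∈ Wt n) (h1 : coeff 0 a = 1)
    (hn : IsNilpotent n) : ∃ u ∈ Wt n, u * a = 1 := by
  have hw : 1 - a ∈ Wt n := (Wt n).sub_mem (Wt n).one_mem ha
  have hw0 : coeff 0 (1 - a) = 0 := by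
    rw [coeff_sub, h1, coeff_one, if_pos rfl, sub_self]
  obtain ⟨K, hK⟩ := isNilpotent_of_mem_Wt n hw hw0 hn
  refine ⟨∑ i ∈ Finset.range K, (1 - a) ^ i, (Wt n).sum_mem fun i _ => (Wt n).pow_mem hw i, ?_⟩
  have := geom_sum_mul_neg (1 - a) K
  rw [hK, sub_zero, sub_sub_cancel] at this
  exact this

end weight

section Sfacts
variable {R : Type u} [CommRing R] (p : ℕ) [hp : Fact p.Prime]

lemma coeff_sub2_zero_X (H : MvPolynomial (Fin 2) R) (j : ℕ) :
    (sub2 (0 : Polynomial R) Polynomial.X H).coeff j = coeff (Finsupp.single 1 j) H := by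
  classical
  induction H using MvPolynomial.induction_on' with
  | monomial m a =>
    show (aeval ![0, Polynomial.X] (monomial m a)).coeff j = _
    rw [aeval_monomial, Finsupp.prod_fintype _ _ (fun i => pow_zero _), Fin.prod_univ_two,
      coeff_monomial]
    simp only [Matrix.cons_val_zero, Matrix.cons_val_one]
    by_cases h1 : m 0 = 0
    · rw [h1, pow_zero, one_mul, Polynomial.algebraMap_eq, Polynomial.coeff_C_mul,
        Polynomial.coeff_X_pow]
      by_cases h0 : j = m 1
      · rw [if_pos h0, mul_one, if_pos]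
        apply fin2_ext
        · simp [h1]
        · simp [h0]
      · rw [if_neg h0, mul_zero, if_neg]
        intro hm
        apply h0
        have := congrArg (fun f => f 1) hm
        simpa using this.symm
    · rw [zero_pow h1, zero_mul, mul_zero, Polynomial.coeff_zero, if_neg]
      intro hm
      apply h1
      have := congrArg (fun f => f 0) hm
      simpa using this
  | add p q hp hq =>
    rw [map_add, Polynomial.coeff_add, hp, hq, coeff_add]

include hp in
lemma sub2_S_zero_right {T : Type v} [CommRing T] [Algebra R T] (a : T) :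
    sub2 a 0 (S p R) = 0 := by
  unfold S
  rw [map_sum]
  apply Finset.sum_eq_zero
  intro j hj
  rw [Finset.mem_Ioo] at hj
  rw [map_mul, map_pow, sub2_X1, zero_pow (by omega), mul_zero]

include hp in
lemma sub2_S_zero_left {T : Type v} [CommRing T] [Algebra R T] (b : T) :
    sub2 0 b (S p R) = 0 := by
  unfold S
  rw [map_sum]
  apply Finset.sum_eq_zero
  intro j hj
  rw [Finset.mem_Ioo] at hj
  rw [map_mul, map_mul, map_pow, sub2_X0, zero_pow (by omega), mul_zero, zero_mul]

include hp in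
lemma pderiv_zero_S : pderiv 0 (S p R) = (X 0 + X 1) ^ (p - 1) - X 0 ^ (p - 1) := by
  rw [pderiv_zero_of_isSymm (isSymm_S p), pderiv_one_S, map_sub, map_pow, map_pow, map_add,
    sub2_X0, sub2_X1, add_comm]

lemma C_pow_mul_S_mem_Wt (n : R) : C (n ^ p) * S p R ∈ Wt n := by
  unfold S
  rw [Finset.mul_sum]
  apply (Wt n).sum_mem
  intro j hj
  rw [Finset.mem_Ioo] at hj
  have : C (n ^ p) * (C ((p.choose j / p : ℕ) : R) * (X 0 : MvPolynomial (Fin 2) R) ^ j *
        X 1 ^ (p - j)) =
      algebraMap R (MvPolynomial (Fin 2) R) ((p.choose j / p : ℕ) : R) *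
        ((C n * X 0) ^ j * (C n * X 1) ^ (p - j)) := by
    have e : n ^ p = n ^ j * n ^ (p - j) := by rw [← pow_add]; congr 1; omega
    rw [e, map_mul, map_pow, map_pow, mul_pow, mul_pow]
    show _ = C _ * _
    ring
  rw [this]
  exact (Wt n).mul_mem ((Wt n).algebraMap_mem _)
    ((Wt n).mul_mem ((Wt n).pow_mem (C_mul_X_mem_Wt n 0) _) ((Wt n).pow_mem (C_mul_X_mem_Wt n 1) _))

end Sfacts

section feq
variable {R : Type u} [CommRing R] (p : ℕ) [hp : Fact p.Prime] (hpR : (p : R) = 0) (n : R)

lemma aeval_ahPoly_mem_Wt {t : MvPolynomial (Fin 2) R} (ht : C n * t ∈ Wt n) :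
    Polynomial.aeval t (ahPoly p hpR n) ∈ Wt n := by
  unfold ahPoly
  rw [map_sum]
  apply (Wt n).sum_mem
  intro j _
  rw [Polynomial.aeval_monomial]
  exact C_pow_mul_pow_mem_Wt n ht _ j

include hp in
lemma aeval_zero_ahPoly {T : Type v} [CommRing T] [Algebra R T] :
    Polynomial.aeval (0 : T) (ahPoly p hpR n) = 1 := by
  rw [Polynomial.aeval_def, Polynomial.eval₂_at_zero, coeff_zero_ahPoly, map_one]

include hp in
lemma coeff_zero_aeval_ahPoly (t : MvPolynomial (Fin 2) R) (ht : coeff 0 t = 0) :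
    coeff 0 (Polynomial.aeval t (ahPoly p hpR n)) = 1 := by
  have h1 : constantCoeff (Polynomial.aeval t (ahPoly p hpR n)) =
      Polynomial.eval₂ ((constantCoeff : MvPolynomial (Fin 2) R →+* R).comp
        (algebraMap R (MvPolynomial (Fin 2) R))) (constantCoeff t) (ahPoly p hpR n) := by
    rw [Polynomial.aeval_def, Polynomial.hom_eval₂]
  have h2 : (constantCoeff : MvPolynomial (Fin 2) R →+* R).comp
      (algebraMap R (MvPolynomial (Fin 2) R)) = RingHom.id R := by
    apply RingHom.ext; intro r; simp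
  have h3 : constantCoeff t = 0 := ht
  rw [h2, h3, Polynomial.eval₂_at_zero, coeff_zero_ahPoly, map_one] at h1
  exact h1

include hp in
lemma deriv_aeval_ahPoly (hn : n ^ (2 * p) = 0)
    (D : Derivation R (MvPolynomial (Fin 2) R) (MvPolynomial (Fin 2) R))
    (t : MvPolynomial (Fin 2) R) :
    D (Polynomial.aeval t (ahPoly p hpR n)) =
      (C n + C (n ^ p) * t ^ (p - 1)) * Polynomial.aeval t (ahPoly p hpR n) * D t := by
  rw [Derivation.map_aeval, derivative_ahPoly p hpR n hn, map_mul, map_add, map_mul,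
    Polynomial.aeval_C, Polynomial.aeval_C, Polynomial.aeval_X_pow, smul_eq_mul]
  rfl

/-- the defect polynomial -/
noncomputable def ahP : MvPolynomial (Fin 2) R :=
  Polynomial.aeval (X 0 : MvPolynomial (Fin 2) R) (ahPoly p hpR n) *
      Polynomial.aeval (X 1 : MvPolynomial (Fin 2) R) (ahPoly p hpR n) -
    Polynomial.aeval (X 0 + X 1 : MvPolynomial (Fin 2) R) (ahPoly p hpR n) *
      (1 - C (n ^ p) * S p R)

include hp in
lemma pderiv_ahP (hn : n ^ (2 * p) = 0) (i : Fin 2) :
    pderiv i (ahP p hpR n) = (C n + C (n ^ p) * X i ^ (p - 1)) * ahP p hpR n := by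
  have hnn : C (n ^ p) * C (n ^ p) = (0 : MvPolynomial (Fin 2) R) := by
    rw [← map_mul, ← pow_add, ← two_mul, hn, map_zero]
  unfold ahP
  rw [map_sub, Derivation.leibniz, Derivation.leibniz, deriv_aeval_ahPoly p hpR n hn,
    deriv_aeval_ahPoly p hpR n hn, deriv_aeval_ahPoly p hpR n hn, map_sub, Derivation.map_one_eq_zero,
    pderiv_C_mul, map_add]
  fin_cases i
  · simp only [Fin.zero_eta, Fin.isValue, pderiv_X_self, pderiv_zero_S p,
      pderiv_X_of_ne (by decide : (1 : Fin 2) ≠ 0), smul_eq_mul]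
    linear_combination (Polynomial.aeval (X 0 + X 1 : MvPolynomial (Fin 2) R) (ahPoly p hpR n) *
      S p R * ((X 0 + X 1) ^ (p - 1) - X 0 ^ (p - 1))) * hnn
  · simp only [Fin.mk_one, Fin.isValue, pderiv_X_self, pderiv_one_S p,
      pderiv_X_of_ne (by decide : (0 : Fin 2) ≠ 1), smul_eq_mul]
    linear_combination (Polynomial.aeval (X 0 + X 1 : MvPolynomial (Fin 2) R) (ahPoly p hpR n) *
      S p R * ((X 0 + X 1) ^ (p - 1) - X 1 ^ (p - 1))) * hnn

include hp in
lemma ahP_mem_Wt : ahP p hpR n ∈ Wt n := by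
  unfold ahP
  have h0 := C_mul_X_mem_Wt n (0 : Fin 2)
  have h1 := C_mul_X_mem_Wt n (1 : Fin 2)
  have h01 : C n * (X 0 + X 1 : MvPolynomial (Fin 2) R) ∈ Wt n := by
    rw [mul_add]; exact (Wt n).add_mem h0 h1
  exact (Wt n).sub_mem ((Wt n).mul_mem (aeval_ahPoly_mem_Wt p hpR n h0)
    (aeval_ahPoly_mem_Wt p hpR n h1))
    ((Wt n).mul_mem (aeval_ahPoly_mem_Wt p hpR n h01)
      ((Wt n).sub_mem (Wt n).one_mem (C_pow_mul_S_mem_Wt p n)))

include hp in
lemma sub2_X_zero_ahP : sub2 (Polynomial.X : Polynomial R) 0 (ahP p hpR n) = 0 := by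
  unfold ahP
  rw [map_sub, map_mul, map_mul, map_sub, map_one, map_mul, sub2_S_zero_right, mul_zero, sub_zero,
    mul_one, sub2_polyAeval, sub2_polyAeval, sub2_polyAeval, map_add, sub2_X0, sub2_X1, add_zero,
    aeval_zero_ahPoly, mul_one, sub_self]

include hp in
lemma sub2_zero_X_ahP : sub2 (0 : Polynomial R) Polynomial.X (ahP p hpR n) = 0 := by
  unfold ahP
  rw [map_sub, map_mul, map_mul, map_sub, map_one, map_mul, sub2_S_zero_left, mul_zero, sub_zero,
    mul_one, sub2_polyAeval, sub2_polyAeval, sub2_polyAeval, map_add, sub2_X0, sub2_X1, zero_add,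
    aeval_zero_ahPoly, one_mul, sub_self]

include hp in
/-- the functional equation of the Artin–Hasse type polynomial -/
theorem ahP_eq_zero (hn : n ^ (2 * p) = 0) : ahP p hpR n = 0 := by
  have hnil : IsNilpotent n := ⟨2 * p, hn⟩
  have h0 := C_mul_X_mem_Wt n (0 : Fin 2)
  have h1 := C_mul_X_mem_Wt n (1 : Fin 2)
  set eX := Polynomial.aeval (X 0 : MvPolynomial (Fin 2) R) (ahPoly p hpR n) with heX
  set eY := Polynomial.aeval (X 1 : MvPolynomial (Fin 2) R) (ahPoly p hpR n) with heY
  have heXW : eX ∈ Wt n := aeval_ahPoly_mem_Wt p hpR n h0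
  have heYW : eY ∈ Wt n := aeval_ahPoly_mem_Wt p hpR n h1
  have heX0 : coeff 0 eX = 1 := coeff_zero_aeval_ahPoly p hpR n _ (by simp)
  have heY0 : coeff 0 eY = 1 := coeff_zero_aeval_ahPoly p hpR n _ (by simp)
  obtain ⟨uX, huXW, huX⟩ := exists_inv_mem_Wt n heXW heX0 hnil
  obtain ⟨uY, huYW, huY⟩ := exists_inv_mem_Wt n heYW heY0 hnil
  -- derivatives of the inverses
  have hdu : ∀ (i : Fin 2) (u a ω : MvPolynomial (Fin 2) R), u * a = 1 → pderiv i a = ω * a →
      pderiv i u = - (ω * u) := by
    intro i u a ω hua hda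
    have h := congrArg (pderiv i) hua
    rw [Derivation.leibniz, Derivation.map_one_eq_zero, hda, smul_eq_mul, smul_eq_mul] at h
    calc pderiv i u = (u * a) * pderiv i u := by rw [hua, one_mul]
      _ = u * (a * pderiv i u) := by ring
      _ = u * (- (u * (ω * a))) := by rw [eq_neg_of_add_eq_zero_right h]
      _ = - (ω * u) * (u * a) := by ring
      _ = - (ω * u) := by rw [hua, mul_one]
  set Q := ahP p hpR n * uX * uY with hQ
  have hQW : Q ∈ Wt n := (Wt n).mul_mem ((Wt n).mul_mem (ahP_mem_Wt p hpR n) huXW) huYW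
  have hdQ : ∀ i : Fin 2, pderiv i Q = 0 := by
    intro i
    have hdX : pderiv i eX = (C n + C (n ^ p) * X 0 ^ (p - 1)) * (pderiv i (X 0)) * eX := by
      rw [heX, deriv_aeval_ahPoly p hpR n hn]; ring
    have hdY : pderiv i eY = (C n + C (n ^ p) * X 1 ^ (p - 1)) * (pderiv i (X 1)) * eY := by
      rw [heY, deriv_aeval_ahPoly p hpR n hn]; ring
    have hduX := hdu i uX eX _ huX hdX
    have hduY := hdu i uY eY _ huY hdY
    rw [hQ, Derivation.leibniz, Derivation.leibniz, pderiv_ahP p hpR n hn, hduX, hduY]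
    fin_cases i
    · simp only [Fin.zero_eta, Fin.isValue, pderiv_X_self,
        pderiv_X_of_ne (by decide : (1 : Fin 2) ≠ 0), smul_eq_mul]
      ring
    · simp only [Fin.mk_one, Fin.isValue, pderiv_X_self,
        pderiv_X_of_ne (by decide : (0 : Fin 2) ≠ 1), smul_eq_mul]
      ring
  have hQ0 : Q = 0 := by
    ext m
    rw [coeff_zero]
    by_cases hm : 2 * p ≤ m 0 + m 1
    · exact coeff_eq_zero_of_mem_Wt n hQW hn m hm
    · by_cases hd0 : p ∣ m 0
      · by_cases hd1 : p ∣ m 1
        · obtain ⟨a, ha⟩ := hd0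
          obtain ⟨b, hb⟩ := hd1
          have hp0 : 0 < p := hp.out.pos
          have hab : a + b < 2 := by
            by_contra hge
            apply hm
            have : p * 2 ≤ p * (a + b) := Nat.mul_le_mul_left p (by omega)
            rw [ha, hb, ← mul_add]; omega
          by_cases hb0 : b = 0
          · have hm' : m = Finsupp.single 0 (m 0) := by
              apply fin2_ext
              · simp
              · simp [hb, hb0]
            rw [hm', ← coeff_sub2_X_zero, hQ, map_mul, map_mul, sub2_X_zero_ahP, zero_mul, zero_mul,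
              Polynomial.coeff_zero]
          · have ha0 : a = 0 := by omega
            have hm' : m = Finsupp.single 1 (m 1) := by
              apply fin2_ext
              · simp [ha, ha0]
              · simp
            rw [hm', ← coeff_sub2_zero_X, hQ, map_mul, map_mul, sub2_zero_X_ahP, zero_mul, zero_mul,
              Polynomial.coeff_zero]
        · exact coeff_eq_zero_of_pderiv_eq_zero p hpR (hdQ 1) m hd1
      · exact coeff_eq_zero_of_pderiv_eq_zero p hpR (hdQ 0) m hd0
  calc ahP p hpR n = Q * eX * eY := by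
        rw [hQ]
        calc ahP p hpR n = ahP p hpR n * (uX * eX) * (uY * eY) := by rw [huX, huY, mul_one, mul_one]
          _ = ahP p hpR n * uX * uY * eX * eY := by ring
    _ = 0 := by rw [hQ0, zero_mul, zero_mul]

include hp in
lemma isUnit_ahPoly (hn : n ^ (2 * p) = 0) : IsUnit (ahPoly p hpR n) := by
  rw [Polynomial.isUnit_iff_coeff_isUnit_isNilpotent]
  refine ⟨by rw [coeff_zero_ahPoly]; exact isUnit_one, fun i hi => ?_⟩
  rw [coeff_ahPoly]
  split_ifs
  · have : IsNilpotent (n ^ i) := IsNilpotent.pow_of_pos ⟨2 * p, hn⟩ hi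
    exact (Commute.all _ _).isNilpotent_mul_left this
  · exact IsNilpotent.zero

include hp hpR in
/-- for `s = n^p` with `s^2 = 0`, the cocycle `1 + s S(X,Y)` is a multiplicative coboundary -/
theorem exists_ah (s n : R) (hs : s * s = 0) (hn : n ^ p = s) :
    ∃ e : Polynomial R, IsUnit e ∧
      Polynomial.aeval (X 0 + X 1 : MvPolynomial (Fin 2) R) e =
        Polynomial.aeval (X 0 : MvPolynomial (Fin 2) R) e *
          Polynomial.aeval (X 1 : MvPolynomial (Fin 2) R) e * (1 + C s * S p R) := by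
  have hn2 : n ^ (2 * p) = 0 := by
    rw [two_mul, pow_add, hn, hs]
  refine ⟨ahPoly p hpR n, isUnit_ahPoly p hpR n hn2, ?_⟩
  have h := ahP_eq_zero p hpR n hn2
  unfold ahP at h
  rw [hn] at h
  have hss : C s * C s = (0 : MvPolynomial (Fin 2) R) := by rw [← map_mul, hs, map_zero]
  linear_combination (-(1 + C s * S p R)) * h +
    (Polynomial.aeval (X 0 + X 1 : MvPolynomial (Fin 2) R) (ahPoly p hpR n) * S p R * S p R) * hss

end feq

end Groth.Agent.Helper2.GaCoc
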