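import Mathlib
import Groth.Agent.Lib.Helper2.GaCoc.AH

/-!
# Splitting of commutative extensions of `G_a` by `G_m` over a ring of characteristic `p` with
surjective Frobenius (cocycle form) (helper2)
-/

set_option autoImplicit false
universe u v
open MvPolynomial

namespace Groth.Agent.Helper2.GaCoc

section split
variable {R : Type u} [CommRing R]

/-- `h` is a multiplicative coboundary -/
def IsSplit (h : MvPolynomial (Fin 2) R) : Prop :=
  ∃ f : Polynomial R, IsUnit f ∧
    Polynomial.aeval (X 0 + X 1 : MvPolynomial (Fin 2) R) f =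
      Polynomial.aeval (X 0 : MvPolynomial (Fin 2) R) f *
        Polynomial.aeval (X 1 : MvPolynomial (Fin 2) R) f * h

lemma IsSplit.mul {h₁ h₂ : MvPolynomial (Fin 2) R} (H₁ : IsSplit h₁) (H₂ : IsSplit h₂) :
    IsSplit (h₁ * h₂) := by
  obtain ⟨f₁, hu₁, e₁⟩ := H₁
  obtain ⟨f₂, hu₂, e₂⟩ := H₂
  refine ⟨f₁ * f₂, hu₁.mul hu₂, ?_⟩
  rw [map_mul, map_mul, map_mul, e₁, e₂]
  ring

lemma isSplit_one : IsSplit (1 : MvPolynomial (Fin 2) R) :=
  ⟨1, isUnit_one, by simp⟩

variable (J : Ideal R)

lemma mul_eq_zero_of_mem {σ : Type*} (hJ : J * J = ⊥) {a b : MvPolynomial σ R}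
    (ha : a ∈ J.map (C : R →+* MvPolynomial σ R)) (hb : b ∈ J.map (C : R →+* MvPolynomial σ R)) :
    a * b = 0 := by
  have h1 : a * b ∈ J.map (C : R →+* MvPolynomial σ R) * J.map (C : R →+* MvPolynomial σ R) :=
    Ideal.mul_mem_mul ha hb
  rw [← Ideal.map_mul, hJ, Ideal.map_bot] at h1
  exact h1

lemma poly_mul_eq_zero_of_mem (hJ : J * J = ⊥) {a b : Polynomial R}
    (ha : a ∈ J.map (Polynomial.C : R →+* Polynomial R))
    (hb : b ∈ J.map (Polynomial.C : R →+* Polynomial R)) : a * b = 0 := by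
  have h1 : a * b ∈ J.map (Polynomial.C : R →+* Polynomial R) *
      J.map (Polynomial.C : R →+* Polynomial R) := Ideal.mul_mem_mul ha hb
  rw [← Ideal.map_mul, hJ, Ideal.map_bot] at h1
  exact h1

/-- `1 + δG` is a multiplicative coboundary when `G` has coefficients in a square-zero ideal -/
lemma isSplit_one_add_dA (hJ : J * J = ⊥) {G : Polynomial R}
    (hG : G ∈ J.map (Polynomial.C : R →+* Polynomial R)) : IsSplit (1 + dA G) := by
  refine ⟨1 + G, ?_, ?_⟩
  · have : IsNilpotent G := ⟨2, by rw [pow_two]; exact poly_mul_eq_zero_of_mem J hJ hG hG⟩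
    exact IsNilpotent.isUnit_one_add this
  · unfold dA
    simp only [map_add, map_one]
    set a := Polynomial.aeval (X 0 : MvPolynomial (Fin 2) R) G with ha
    set b := Polynomial.aeval (X 1 : MvPolynomial (Fin 2) R) G with hb
    set c := Polynomial.aeval (X 0 + X 1 : MvPolynomial (Fin 2) R) G with hc
    have haJ : a ∈ J.map (C : R →+* MvPolynomial (Fin 2) R) := polyAeval_mem J _ hG
    have hbJ : b ∈ J.map (C : R →+* MvPolynomial (Fin 2) R) := polyAeval_mem J _ hG
    have hcJ : c ∈ J.map (C : R →+* MvPolynomial (Fin 2) R) := polyAeval_mem J _ hG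
    have h1 := mul_eq_zero_of_mem J hJ haJ hbJ
    have h2 := mul_eq_zero_of_mem J hJ haJ hcJ
    have h3 := mul_eq_zero_of_mem J hJ hbJ hcJ
    have h4 := mul_eq_zero_of_mem J hJ haJ haJ
    have h5 := mul_eq_zero_of_mem J hJ hbJ hbJ
    linear_combination (1 - c + a + b) * h1 - h2 - h3 + h4 + h5

end split

section sqzero
variable {R : Type u} [CommRing R] (p : ℕ) [hp : Fact p.Prime]

include hp in
/-- `1 + r S(X^q, Y^q)` (`q = p^i`, `r^2 = 0`) is a multiplicative coboundary when `r` has a
`p`-th root -/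
lemma isSplit_one_add_S (hpR : (p : R) = 0) (r : R) (hr : r * r = 0) (hroot : ∃ n : R, n ^ p = r)
    (i : ℕ) : IsSplit (1 + C r * expand (p ^ i) (S p R)) := by
  obtain ⟨n, hn⟩ := hroot
  obtain ⟨e, he, heq⟩ := exists_ah p hpR r n hr hn
  have hpM : (p : MvPolynomial (Fin 2) R) = 0 := natCast_mv_eq_zero p hpR
  refine ⟨Polynomial.expand R (p ^ i) e, he.map (Polynomial.expand R (p ^ i)), ?_⟩
  rw [Polynomial.expand_aeval, Polynomial.expand_aeval, Polynomial.expand_aeval,
    add_pow_p_pow p hpM]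
  have h := congrArg (expand (p ^ i)) heq
  rw [map_mul, map_mul, map_add, map_one, map_mul, expand_C,
    ← Polynomial.aeval_algHom_apply, ← Polynomial.aeval_algHom_apply,
    ← Polynomial.aeval_algHom_apply, map_add, expand_X, expand_X] at h
  exact h

include hp in
/-- the square-zero case -/
theorem isSplit_of_sqzero (hpR : (p : R) = 0) (hfrob : ∀ x : R, ∃ y : R, y ^ p = x)
    (J : Ideal R) (hJ : J * J = ⊥) (c : MvPolynomial (Fin 2) R)
    (hc : c ∈ J.map (C : R →+* MvPolynomial (Fin 2) R)) (hS : IsSymm c) (hC : IsCocA c) :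
    IsSplit (1 + c) := by
  obtain ⟨G, N, r, hG, hr, hF⟩ := lazard p hpR J c.totalDegree c le_rfl hS hC hc
  rw [hF]
  clear hF
  induction N with
  | zero =>
    rw [Finset.range_zero, Finset.sum_empty, add_zero]
    exact isSplit_one_add_dA J hJ hG
  | succ N ih =>
    rw [Finset.sum_range_succ]
    have hA : dA G + ∑ i ∈ Finset.range N, C (r i) * expand (p ^ i) (S p R) ∈
        J.map (C : R →+* MvPolynomial (Fin 2) R) :=
      Ideal.add_mem _ (dA_mem J hG) (Ideal.sum_mem _ fun i _ => C_mul_mem J (hr i) _)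
    have hB : C (r N) * expand (p ^ N) (S p R) ∈ J.map (C : R →+* MvPolynomial (Fin 2) R) :=
      C_mul_mem J (hr N) _
    have hAB := mul_eq_zero_of_mem J hJ hA hB
    have hrr : r N * r N = 0 := by
      have : r N * r N ∈ J * J := Ideal.mul_mem_mul (hr N) (hr N)
      rw [hJ] at this
      exact this
    have hsplit := ih.mul (isSplit_one_add_S p hpR (r N) hrr (hfrob _) N)
    have e : (1 + (dA G + ∑ i ∈ Finset.range N, C (r i) * expand (p ^ i) (S p R))) *
        (1 + C (r N) * expand (p ^ N) (S p R)) =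
        1 + (dA G + ∑ i ∈ Finset.range N, C (r i) * expand (p ^ i) (S p R)) +
          C (r N) * expand (p ^ N) (S p R) := by
      linear_combination hAB
    rw [e] at hsplit
    convert hsplit using 1
    ring

end sqzero

section cob
variable {R : Type u} [CommRing R]

lemma IsSymm.mul {F G : MvPolynomial (Fin 2) R} (hF : IsSymm F) (hG : IsSymm G) :
    IsSymm (F * G) := by
  unfold IsSymm at *
  rw [map_mul, hF, hG]

lemma IsCocM.mul {F G : MvPolynomial (Fin 2) R} (hF : IsCocM F) (hG : IsCocM G) :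
    IsCocM (F * G) := by
  unfold IsCocM at *
  simp only [map_mul]
  linear_combination (sub2 (X 1 : MvPolynomial (Fin 3) R) (X 2) G *
    sub2 (X 0 : MvPolynomial (Fin 3) R) (X 1 + X 2) G) * hF +
    (sub2 (X 0 + X 1 : MvPolynomial (Fin 3) R) (X 2) F *
      sub2 (X 0 : MvPolynomial (Fin 3) R) (X 1) F) * hG

lemma isSymm_one : IsSymm (1 : MvPolynomial (Fin 2) R) := by
  unfold IsSymm; rw [map_one]

/-- uniqueness of inverses -/
lemma inv_unique {A : Type*} [CommRing A] {u v a : A} (hu : u * a = 1) (hv : v * a = 1) : u = v := by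
  calc u = u * (v * a) := by rw [hv, mul_one]
    _ = v * (u * a) := by ring
    _ = v := by rw [hu, mul_one]

lemma sub2_cob {T : Type v} [CommRing T] [Algebra R T] (a b : T) (f : Polynomial R)
    (u : MvPolynomial (Fin 2) R)
    (hu : u * Polynomial.aeval (X 0 + X 1 : MvPolynomial (Fin 2) R) f = 1) :
    sub2 a b u * Polynomial.aeval (a + b) f = 1 := by
  have := congrArg (sub2 a b) hu
  rw [map_mul, map_one, sub2_polyAeval, map_add, sub2_X0, sub2_X1] at this
  exact this

lemma isSymm_cob (f : Polynomial R) (u : MvPolynomial (Fin 2) R)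
    (hu : u * Polynomial.aeval (X 0 + X 1 : MvPolynomial (Fin 2) R) f = 1) :
    IsSymm (Polynomial.aeval (X 0 : MvPolynomial (Fin 2) R) f *
      Polynomial.aeval (X 1 : MvPolynomial (Fin 2) R) f * u) := by
  unfold IsSymm
  rw [map_mul, map_mul, sub2_polyAeval, sub2_polyAeval, sub2_X0, sub2_X1]
  have h1 := sub2_cob (X 1 : MvPolynomial (Fin 2) R) (X 0) f u hu
  rw [add_comm] at h1
  rw [inv_unique h1 hu]
  ring

lemma isCocM_cob (f : Polynomial R) (u : MvPolynomial (Fin 2) R)
    (hu : u * Polynomial.aeval (X 0 + X 1 : MvPolynomial (Fin 2) R) f = 1) :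
    IsCocM (Polynomial.aeval (X 0 : MvPolynomial (Fin 2) R) f *
      Polynomial.aeval (X 1 : MvPolynomial (Fin 2) R) f * u) := by
  unfold IsCocM
  simp only [map_mul, sub2_polyAeval, sub2_X0, sub2_X1]
  have e1 := sub2_cob (X 1 : MvPolynomial (Fin 3) R) (X 2) f u hu
  have e2 := sub2_cob (X 0 : MvPolynomial (Fin 3) R) (X 1 + X 2) f u hu
  have e3 := sub2_cob (X 0 + X 1 : MvPolynomial (Fin 3) R) (X 2) f u hu
  have e4 := sub2_cob (X 0 : MvPolynomial (Fin 3) R) (X 1) f u hu
  have e5 : (X 0 + (X 1 + X 2) : MvPolynomial (Fin 3) R) = X 0 + X 1 + X 2 := by ring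
  rw [e5] at e2
  have e6 := inv_unique e2 e3
  rw [e6]
  set f0 := Polynomial.aeval (X 0 : MvPolynomial (Fin 3) R) f
  set f1 := Polynomial.aeval (X 1 : MvPolynomial (Fin 3) R) f
  set f2 := Polynomial.aeval (X 2 : MvPolynomial (Fin 3) R) f
  set f12 := Polynomial.aeval (X 1 + X 2 : MvPolynomial (Fin 3) R) f
  set f01 := Polynomial.aeval (X 0 + X 1 : MvPolynomial (Fin 3) R) f
  set u12 := sub2 (X 1 : MvPolynomial (Fin 3) R) (X 2) u
  set u01 := sub2 (X 0 : MvPolynomial (Fin 3) R) (X 1) u
  set w := sub2 (X 0 + X 1 : MvPolynomial (Fin 3) R) (X 2) u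
  linear_combination (f0 * f1 * f2 * w) * e1 - (f0 * f1 * f2 * w) * e4

/-- a multiplicative cocycle `1 + c` with `c` in a square-zero ideal gives an additive cocycle -/
lemma isCocA_of_isCocM (J : Ideal R) (hJ : J * J = ⊥) {c : MvPolynomial (Fin 2) R}
    (hc : c ∈ J.map (C : R →+* MvPolynomial (Fin 2) R)) (h : IsCocM (1 + c)) : IsCocA c := by
  unfold IsCocM at h
  unfold IsCocA
  simp only [map_add, map_one] at h
  have m1 := sub2_mem J (X 1 : MvPolynomial (Fin 3) R) (X 2) hc
  have m2 := sub2_mem J (X 0 : MvPolynomial (Fin 3) R) (X 1 + X 2) hc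
  have m3 := sub2_mem J (X 0 + X 1 : MvPolynomial (Fin 3) R) (X 2) hc
  have m4 := sub2_mem J (X 0 : MvPolynomial (Fin 3) R) (X 1) hc
  have z1 := mul_eq_zero_of_mem J hJ m1 m2
  have z2 := mul_eq_zero_of_mem J hJ m3 m4
  linear_combination h - z1 + z2

lemma isSymm_sub_one {h : MvPolynomial (Fin 2) R} (hh : IsSymm h) : IsSymm (h - 1) :=
  hh.sub isSymm_one

end cob

section lift
variable {R : Type u} [CommRing R]

lemma map_polyAeval {R' : Type*} [CommRing R'] (π : R →+* R') {σ : Type*} (t : MvPolynomial σ R)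
    (f : Polynomial R) :
    MvPolynomial.map π (Polynomial.aeval t f) =
      Polynomial.aeval (MvPolynomial.map π t) (Polynomial.map π f) := by
  rw [Polynomial.aeval_def, Polynomial.aeval_def, Polynomial.hom_eval₂, Polynomial.eval₂_map]
  congr 1
  apply RingHom.ext
  intro r
  simp

lemma isUnit_of_map_quotient (I : Ideal R) (hI : IsNilpotent I) (f : Polynomial R)
    (hf : IsUnit (f.map (Ideal.Quotient.mk I))) : IsUnit f := by
  rw [Polynomial.isUnit_iff_coeff_isUnit_isNilpotent] at hf ⊢
  obtain ⟨h0, h1⟩ := hf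
  constructor
  · rw [Polynomial.coeff_map] at h0
    exact (IsNilpotent.isUnit_quotient_mk_iff hI).mp h0
  · intro i hi
    obtain ⟨k, hk⟩ := h1 i hi
    rw [Polynomial.coeff_map, ← map_pow, Ideal.Quotient.eq_zero_iff_mem] at hk
    obtain ⟨m, hm⟩ := hI
    refine ⟨k * m, ?_⟩
    have := Ideal.pow_mem_pow hk m
    rw [hm, ← pow_mul] at this
    exact this

lemma map_mem_map {R' : Type*} [CommRing R'] (π : R →+* R') (N : Ideal R) {σ : Type*}
    {F : MvPolynomial σ R} (hF : F ∈ N.map (C : R →+* MvPolynomial σ R)) :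
    MvPolynomial.map π F ∈ (N.map π).map (C : R' →+* MvPolynomial σ R') := by
  rw [mem_map_C_iff] at hF ⊢
  intro m
  rw [coeff_map]
  exact Ideal.mem_map_of_mem π (hF m)

end lift

section main
variable (p : ℕ) [hp : Fact p.Prime]

include hp in
/-- dévissage along the powers of a nilpotent ideal containing the coefficients of `h - 1` -/
theorem isSplit_of_nilpotent : ∀ (r : ℕ) (R : Type u) [CommRing R], (p : R) = 0 →
    (∀ x : R, ∃ y : R, y ^ p = x) →
    ∀ (h : MvPolynomial (Fin 2) R) (N : Ideal R),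
      h - 1 ∈ N.map (C : R →+* MvPolynomial (Fin 2) R) → N ^ r = ⊥ →
      IsSymm h → IsCocM h → IsSplit h := by
  intro r
  induction r with
  | zero =>
    intro R _ hpR hfrob h N hN hNr hS hC
    rw [pow_zero, Ideal.one_eq_top] at hNr
    have h1 : (1 : R) ∈ (⊥ : Ideal R) := by rw [← hNr]; trivial
    haveI : Subsingleton R := subsingleton_of_zero_eq_one ((Ideal.mem_bot.mp h1).symm)
    exact ⟨1, isUnit_one, Subsingleton.elim _ _⟩
  | succ r ih =>
    intro R _ hpR hfrob h N hN hNr hS hC
    rcases Nat.eq_zero_or_pos r with hr0 | hrpos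
    · subst hr0
      rw [zero_add, pow_one] at hNr
      rw [hNr, Ideal.map_bot] at hN
      have : h = 1 := sub_eq_zero.mp hN
      rw [this]
      exact isSplit_one
    · set I := N ^ r with hI
      have hII : I * I = ⊥ := by
        rw [hI, ← pow_add, eq_bot_iff, ← hNr]
        exact Ideal.pow_le_pow_right (by omega)
      have hInil : IsNilpotent I := ⟨2, by rw [pow_two]; exact hII⟩
      have hpR' : (p : R ⧸ I) = 0 := by
        rw [← map_natCast (Ideal.Quotient.mk I), hpR, map_zero]
      have hfrob' : ∀ x : R ⧸ I, ∃ y : R ⧸ I, y ^ p = x := by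
        intro x
        obtain ⟨a, rfl⟩ := Ideal.Quotient.mk_surjective x
        obtain ⟨b, hb⟩ := hfrob a
        exact ⟨Ideal.Quotient.mk I b, by rw [← map_pow, hb]⟩
      have hN' : MvPolynomial.map (Ideal.Quotient.mk I) h - 1 ∈
          (N.map (Ideal.Quotient.mk I)).map (C : (R ⧸ I) →+* MvPolynomial (Fin 2) (R ⧸ I)) := by
        have := map_mem_map (Ideal.Quotient.mk I) N hN
        rwa [map_sub, map_one] at this
      have hNr' : (N.map (Ideal.Quotient.mk I)) ^ r = ⊥ := by
        rw [← Ideal.map_pow, ← hI, Ideal.map_quotient_self]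
      obtain ⟨fbar, hfu, hfe⟩ := ih (R ⧸ I) hpR' hfrob' (MvPolynomial.map (Ideal.Quotient.mk I) h)
        (N.map (Ideal.Quotient.mk I)) hN' hNr' (hS.map _) (hC.map _)
      obtain ⟨f, rfl⟩ := Polynomial.map_surjective (Ideal.Quotient.mk I)
        Ideal.Quotient.mk_surjective fbar
      have hf : IsUnit f := isUnit_of_map_quotient I hInil f hfu
      have hfxy : IsUnit (Polynomial.aeval (X 0 + X 1 : MvPolynomial (Fin 2) R) f) := hf.map _
      obtain ⟨u, hu⟩ := hfxy.exists_left_inv
      set g := Polynomial.aeval (X 0 : MvPolynomial (Fin 2) R) f *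
        Polynomial.aeval (X 1 : MvPolynomial (Fin 2) R) f * u with hg
      have hh'1 : h * g - 1 ∈ I.map (C : R →+* MvPolynomial (Fin 2) R) := by
        have hker : h * g - 1 ∈ RingHom.ker
            (MvPolynomial.map (Ideal.Quotient.mk I) :
              MvPolynomial (Fin 2) R →+* MvPolynomial (Fin 2) (R ⧸ I)) := by
          rw [RingHom.mem_ker, map_sub, map_one, sub_eq_zero, map_mul, hg, map_mul, map_mul,
            map_polyAeval, map_polyAeval, map_X, map_X]
          have hu' := congrArg (MvPolynomial.map (Ideal.Quotient.mk I)) hu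
          rw [map_mul, map_one, map_polyAeval, map_add, map_X, map_X] at hu'
          linear_combination (-(MvPolynomial.map (Ideal.Quotient.mk I) u)) * hfe + hu'
        rw [MvPolynomial.ker_map, Ideal.mk_ker] at hker
        exact hker
      have hS' : IsSymm (h * g) := hS.mul (isSymm_cob f u hu)
      have hC' : IsCocM (h * g) := hC.mul (isCocM_cob f u hu)
      have hsp : IsSplit (1 + (h * g - 1)) :=
        isSplit_of_sqzero p hpR hfrob I hII (h * g - 1) hh'1 (isSymm_sub_one hS')
          (isCocA_of_isCocM I hII hh'1 (by rwa [add_sub_cancel]))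
      rw [add_sub_cancel] at hsp
      obtain ⟨f', hf'u, hf'e⟩ := hsp
      refine ⟨f' * f, hf'u.mul hf, ?_⟩
      rw [map_mul, map_mul, map_mul, hf'e, hg]
      linear_combination (Polynomial.aeval (X 0 : MvPolynomial (Fin 2) R) f' *
        Polynomial.aeval (X 1 : MvPolynomial (Fin 2) R) f' * h *
        Polynomial.aeval (X 0 : MvPolynomial (Fin 2) R) f *
        Polynomial.aeval (X 1 : MvPolynomial (Fin 2) R) f) * hu

include hp in
/-- every normalised symmetric multiplicative 2-cocycle `G_a × G_a → G_m` over a ring of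
characteristic `p` with surjective Frobenius is a coboundary -/
theorem isSplit_of_frobenius_surjective (R : Type u) [CommRing R] (hpR : (p : R) = 0)
    (hfrob : ∀ x : R, ∃ y : R, y ^ p = x) (h : MvPolynomial (Fin 2) R) (hu : IsUnit h)
    (h0 : sub2 (X 0 : MvPolynomial (Fin 2) R) 0 h = 1) (hS : IsSymm h) (hC : IsCocM h) :
    IsSplit h := by
  classical
  -- the constant coefficient is one
  have hc0 : coeff 0 h = 1 := by
    have e1 : aeval (0 : Fin 2 → R) (sub2 (X 0 : MvPolynomial (Fin 2) R) 0 h) =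
        aeval (0 : Fin 2 → R) h := by
      show aeval (0 : Fin 2 → R) (aeval ![X 0, 0] h) = _
      rw [← AlgHom.comp_apply, comp_aeval]
      congr 2
      funext i
      fin_cases i <;> simp
    rw [h0, map_one, aeval_zero] at e1
    exact e1.symm
  set F := h - 1 with hF
  let N : Ideal R := Ideal.span ((F.support.image (fun m => coeff m F) : Finset R) : Set R)
  have hmem : F ∈ N.map (C : R →+* MvPolynomial (Fin 2) R) := by
    rw [mem_map_C_iff]
    intro m
    by_cases hm : m ∈ F.support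
    · exact Ideal.subset_span (Finset.mem_coe.mpr (Finset.mem_image_of_mem _ hm))
    · rw [notMem_support_iff.mp hm]
      exact N.zero_mem
  have hfg : N.FG := Submodule.fg_span (Finset.finite_toSet _)
  have hle : N ≤ nilradical R := by
    apply Ideal.span_le.mpr
    intro x hx
    rw [Finset.mem_coe, Finset.mem_image] at hx
    obtain ⟨m, -, rfl⟩ := hx
    rw [SetLike.mem_coe, mem_nilradical, hF, coeff_sub, coeff_one]
    by_cases hm : m = 0
    · rw [hm, if_pos rfl, hc0, sub_self]
      exact IsNilpotent.zero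
    · rw [if_neg (Ne.symm hm), sub_zero]
      exact (MvPolynomial.isUnit_iff.mp hu).2 m hm
  obtain ⟨r, hr⟩ := (Ideal.FG.isNilpotent_iff_le_nilradical hfg).mpr hle
  exact isSplit_of_nilpotent p r R hpR hfrob h N hmem hr hS hC

end main

end Groth.Agent.Helper2.GaCoc
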